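import Cfsg.Agent.H81.IsoPGroup

/-!
An extraspecial subgroup from twelve generators with the standard commutator table.
-/

set_option autoImplicit false

open Subgroup
open scoped commutatorElement Pointwise

namespace H42.J4Cent

variable {G : Type*} [Group G]

/-- The table: `q i` and `q j` commute except for the pairs `(i, i + 6)`. -/
structure Frame (z : G) (q : Fin 12 → G) : Prop where
  z2 : z * z = 1
  zne : z ≠ 1
  zq : ∀ i, z * q i = q i * z
  sq : ∀ i, q i * q i = 1 ∨ q i * q i = z
  com : ∀ i j : Fin 12, i.val < j.val → j.val ≠ i.val + 6 → q i * q j = q j * q i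
  pair : ∀ i j : Fin 12, i.val < 6 → j.val = i.val + 6 → q i * q j = z * (q j * q i)

variable {z : G} {q : Fin 12 → G}

/-- The subgroup generated by the frame. -/
def Frame.span (_h : Frame z q) : Subgroup G := closure (insert z (Set.range q))

/-- The partner of an index. -/
def partner (i : Fin 12) : Fin 12 :=
  if h : i.val < 6 then ⟨i.val + 6, by omega⟩ else ⟨i.val - 6, by omega⟩

theorem partner_partner : ∀ i : Fin 12, partner (partner i) = i := by decide

theorem Frame.commute_of_ne (h : Frame z q) {i j : Fin 12} (hne : j ≠ partner i) :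
    q i * q j = q j * q i := by
  rcases lt_trichotomy i.val j.val with hlt | he | hgt
  · refine h.com i j hlt fun e => hne (Fin.ext ?_)
    rw [partner, dif_pos (show i.val < 6 by omega)]; omega
  · rw [Fin.ext he]
  · refine (h.com j i hgt fun e => hne (Fin.ext ?_)).symm
    rw [partner, dif_neg (show ¬ i.val < 6 by omega)]; show j.val = i.val - 6; omega

theorem Frame.partner_comm (h : Frame z q) (i : Fin 12) :
    q i * q (partner i) = z * (q (partner i) * q i) := by
  by_cases hi : i.val < 6
  · exact h.pair i _ hi (by rw [partner, dif_pos hi])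
  · have e := h.pair (partner i) i (by rw [partner, dif_neg hi]; show i.val - 6 < 6; omega)
      (by rw [partner, dif_neg hi]; show i.val = i.val - 6 + 6; omega)
    rw [e, ← mul_assoc z z, h.z2, one_mul]

theorem Frame.extraspecial [Finite G] (h : Frame z q) :
    Cfsg.IsExtraspecial 2 ↥h.span ∧ Nat.card ↥h.span = 2 ^ 13 := by
  classical
  haveI : Fact (Nat.Prime 2) := ⟨Nat.prime_two⟩
  set Q : Subgroup G := h.span with hQ
  have hzQ : z ∈ Q := subset_closure (Set.mem_insert _ _)
  have hqQ : ∀ i, q i ∈ Q := fun i => subset_closure (Set.mem_insert_of_mem _ ⟨i, rfl⟩)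
  let z' : Q := ⟨z, hzQ⟩
  let g : Fin 12 → Q := fun i => ⟨q i, hqQ i⟩
  have hgen : closure (insert z' (Set.range g)) = (⊤ : Subgroup Q) := by
    have hm : (closure (insert z' (Set.range g))).map Q.subtype = Q := by
      rw [MonoidHom.map_closure, Set.image_insert_eq, ← Set.range_comp]
      rfl
    refine map_injective Q.subtype_injective ?_
    rw [hm, ← MonoidHom.range_eq_map, range_subtype]
  have hzc : ∀ x : Q, z' * x = x * z' := by
    have hle : closure (insert z' (Set.range g)) ≤ centralizer ({z'} : Set Q) := by
      rw [closure_le]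
      rintro _ (rfl | ⟨i, rfl⟩)
      · exact mem_centralizer_singleton_iff.2 rfl
      · exact mem_centralizer_singleton_iff.2 (Subtype.ext (h.zq i).symm)
    intro x
    exact (mem_centralizer_singleton_iff.1 (hle (hgen.symm ▸ mem_top x))).symm
  have hz2 : z' * z' = 1 := Subtype.ext h.z2
  have hzord : orderOf z' = 2 :=
    orderOf_eq_prime (by rw [pow_two]; exact hz2) fun e => h.zne (congrArg Subtype.val e)
  haveI : (zpowers z').Normal := ⟨fun n hn x => by
    obtain ⟨i, rfl⟩ := mem_zpowers_iff.1 hn
    rw [((show Commute z' x from hzc x).zpow_left i).symm.eq, mul_inv_cancel_right]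
    exact zpow_mem (mem_zpowers z') i⟩
  let π := QuotientGroup.mk' (zpowers z')
  have hπz : π z' = 1 := (QuotientGroup.eq_one_iff z').2 (mem_zpowers z')
  have hπ2 : ∀ i, π (g i) * π (g i) = 1 := by
    intro i
    rw [← map_mul]
    rcases h.sq i with e | e
    · rw [show g i * g i = 1 from Subtype.ext e, map_one]
    · rw [show g i * g i = z' from Subtype.ext e, hπz]
  have hπc : ∀ i j, π (g i) * π (g j) = π (g j) * π (g i) := by
    intro i j
    by_cases hj : j = partner i
    · subst hj
      rw [← map_mul, ← map_mul, show g i * g (partner i) = z' * (g (partner i) * g i) from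
        Subtype.ext (h.partner_comm i), map_mul, hπz, one_mul]
    · rw [← map_mul, ← map_mul,
        show g i * g j = g j * g i from Subtype.ext (h.commute_of_ne hj)]
  -- the quotient is generated by twelve commuting involutions
  have key : ∀ s : Finset (Fin 12), Nat.card ↥(closure ((fun i => π (g i)) '' (s : Set (Fin 12)))) ≤
      2 ^ s.card := by
    intro s
    induction s using Finset.induction_on with
    | empty =>
      rw [Finset.coe_empty, Set.image_empty, Subgroup.closure_empty, card_bot, Finset.card_empty,
        pow_zero]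
    | @insert i s hi ih =>
      rw [Finset.coe_insert, Set.image_insert_eq, Set.insert_eq, Subgroup.closure_union, ← zpowers_eq_closure,
        Finset.card_insert_of_notMem hi]
      have hn : zpowers (π (g i)) ≤
          normalizer (↑(closure ((fun i => π (g i)) '' (s : Set (Fin 12)))) : Set (Q ⧸ zpowers z')) := by
        refine zpowers_le.2 (centralizer_le_normalizer _ ?_)
        rw [centralizer_closure]
        refine mem_centralizer_iff.2 ?_
        rintro _ ⟨j, -, rfl⟩
        exact hπc j i
      have hc := coe_mul_of_left_le_normalizer_right _ _ hn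
      calc Nat.card ↥(zpowers (π (g i)) ⊔ closure ((fun i => π (g i)) '' (s : Set (Fin 12))))
          = Nat.card ↥((zpowers (π (g i)) : Set (Q ⧸ zpowers z')) *
              (closure ((fun i => π (g i)) '' (s : Set (Fin 12))) : Set (Q ⧸ zpowers z'))) := by
            exact Nat.card_congr (Equiv.setCongr hc)
        _ ≤ Nat.card ↥(zpowers (π (g i))) *
              Nat.card ↥(closure ((fun i => π (g i)) '' (s : Set (Fin 12)))) := by
            exact Set.natCard_mul_le
        _ ≤ 2 * 2 ^ s.card := by
            refine Nat.mul_le_mul ?_ ih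
            rw [Nat.card_zpowers]
            exact Nat.le_of_dvd two_pos (orderOf_dvd_of_pow_eq_one (by rw [pow_two]; exact hπ2 i))
        _ = 2 ^ (s.card + 1) := by ring
  have hquot : Nat.card (Q ⧸ zpowers z') ≤ 2 ^ 12 := by
    have htop : closure ((fun i => π (g i)) '' ((Finset.univ : Finset (Fin 12)) : Set (Fin 12))) = ⊤ := by
      rw [eq_top_iff, ← map_top_of_surjective π (QuotientGroup.mk'_surjective _), ← hgen,
        MonoidHom.map_closure, closure_le]
      rintro _ ⟨w, (rfl | ⟨i, rfl⟩), rfl⟩
      · rw [hπz]; exact one_mem _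
      · exact subset_closure ⟨i, by simp, rfl⟩
    have h12 := key Finset.univ
    rwa [htop, card_top, Finset.card_univ, Fintype.card_fin] at h12
  have hcardQ : Nat.card Q ≤ 2 ^ 13 := by
    rw [card_eq_card_quotient_mul_card_subgroup (zpowers z'), Nat.card_zpowers, hzord]
    calc Nat.card (Q ⧸ zpowers z') * 2 ≤ 2 ^ 12 * 2 := Nat.mul_le_mul_right 2 hquot
      _ = 2 ^ 13 := by norm_num
  -- the commutator pairing
  have hcommz : ∀ x : Q, ∀ i, x * g i = g i * x ∨ x * g i = z' * (g i * x) := by
    intro x i
    have hq := Subgroup.mem_top x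
    rw [← hgen] at hq
    induction hq using closure_induction with
    | mem w hw =>
      rcases hw with rfl | ⟨j, rfl⟩
      · exact Or.inl (hzc _)
      · by_cases hi : i = partner j
        · subst hi; exact Or.inr (Subtype.ext (h.partner_comm j))
        · exact Or.inl (Subtype.ext (h.commute_of_ne hi))
    | one => simp
    | mul u v _ _ hu hv =>
      rcases hu with hu | hu <;> rcases hv with hv | hv
      · left; rw [mul_assoc, hv, ← mul_assoc, hu, mul_assoc]
      · right; rw [mul_assoc u v, hv, ← mul_assoc u z', ← hzc u, mul_assoc z', ← mul_assoc u, hu,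
          mul_assoc (g i)]
      · right; rw [mul_assoc u v, hv, ← mul_assoc u, hu]; simp only [mul_assoc]
      · left
        rw [mul_assoc u v, hv, ← mul_assoc u z', ← hzc u, mul_assoc z', ← mul_assoc u, hu,
          ← mul_assoc z', ← mul_assoc z' z', hz2, one_mul, mul_assoc]
    | inv u _ hu =>
      rcases hu with hu | hu
      · exact Or.inl ((show Commute u (g i) from hu).inv_left.eq)
      · right
        calc u⁻¹ * g i = u⁻¹ * ((g i * u) * u⁻¹) := by group
          _ = u⁻¹ * ((z' * (u * g i)) * u⁻¹) := by rw [hu, ← mul_assoc z' z', hz2, one_mul]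
          _ = u⁻¹ * (u * z') * (g i * u⁻¹) := by rw [← hzc u]; group
          _ = z' * (g i * u⁻¹) := by group
  have hzne' : z' ≠ 1 := fun e => h.zne (congrArg Subtype.val e)
  let χ : Q → (Fin 12 → Bool) := fun x i => decide (x * g i ≠ g i * x)
  have hχmul : ∀ x y, χ (x * y) = fun i => xor (χ x i) (χ y i) := by
    intro x y; funext i
    have hne : ∀ w : Q, z' * (g i * w) ≠ g i * w := fun w e => hzne' (mul_eq_right.1 e)
    rcases hcommz x i with hx | hx <;> rcases hcommz y i with hy | hy
    · have : x * y * g i = g i * (x * y) := by rw [mul_assoc, hy, ← mul_assoc, hx, mul_assoc]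
      simp [χ, hx, hy, this]
    · have : x * y * g i = z' * (g i * (x * y)) := by
        rw [mul_assoc x y, hy, ← mul_assoc x z', ← hzc x, mul_assoc z', ← mul_assoc x, hx,
          mul_assoc (g i)]
      simp [χ, hx, hy, this, hne]
    · have : x * y * g i = z' * (g i * (x * y)) := by
        rw [mul_assoc x y, hy, ← mul_assoc x, hx]; simp only [mul_assoc]
      simp [χ, hx, hy, this, hne]
    · have : x * y * g i = g i * (x * y) := by
        rw [mul_assoc x y, hy, ← mul_assoc x z', ← hzc x, mul_assoc z', ← mul_assoc x, hx,
          ← mul_assoc z', ← mul_assoc z' z', hz2, one_mul, mul_assoc]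
      simp [χ, hx, hy, this, hne]
  have hχg : ∀ j, χ (g j) = fun i => decide (i = partner j) := by
    intro j; funext i
    by_cases hi : i = partner j
    · subst hi
      have hne : g j * g (partner j) ≠ g (partner j) * g j := by
        rw [show g j * g (partner j) = z' * (g (partner j) * g j) from Subtype.ext (h.partner_comm j)]
        exact fun e => hzne' (mul_eq_right.1 e)
      simp [χ, hne]
    · have : g j * g i = g i * g j := Subtype.ext (h.commute_of_ne hi)
      simp [χ, hi, this]
  have hsurj : Function.Surjective χ := by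
    intro v
    have : ∀ s : Finset (Fin 12), ∃ x, χ x = fun i => decide (i ∈ s) := by
      intro s
      induction s using Finset.induction_on with
      | empty => exact ⟨1, by funext i; simp [χ]⟩
      | @insert i s hi ih =>
        obtain ⟨x, hx⟩ := ih
        refine ⟨g (partner i) * x, ?_⟩
        rw [hχmul, hx, hχg, partner_partner]
        funext k
        by_cases hk : k = i
        · subst hk; simp [hi]
        · simp [hk]
    obtain ⟨x, hx⟩ := this (Finset.univ.filter fun i => v i = true)
    exact ⟨x, by rw [hx]; funext i; cases hv : v i <;> simp [hv]⟩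
  have hχz : χ z' = fun _ => false := by funext i; simp [χ, hzc]
  have hχzk : ∀ x, χ (z' * x) = χ x := fun x => by
    rw [hχmul, hχz]; funext i; simp
  -- each fibre has two elements
  let Φ : Q → (Q ⧸ zpowers z') := π
  have hfact : ∀ x y : Q, π x = π y → χ x = χ y := by
    intro x y e
    obtain ⟨k, hk, rfl⟩ : ∃ k ∈ zpowers z', y = k * x := ⟨y * x⁻¹, by
      rw [← QuotientGroup.eq_one_iff]
      show π (y * x⁻¹) = 1
      rw [map_mul, map_inv, e, mul_inv_cancel], by group⟩
    obtain ⟨n, rfl⟩ := (isOfFinOrder_of_finite z').mem_powers_iff_mem_zpowers.2 hk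
    clear e hk
    simp only
    induction n with
    | zero => rw [pow_zero, one_mul]
    | succ n ih =>
      rw [pow_succ', mul_assoc, hχzk]
      exact ih
  let χ' : Q ⧸ zpowers z' → (Fin 12 → Bool) := fun c => χ (Function.surjInv (QuotientGroup.mk'_surjective _) c)
  have hχ' : ∀ x, χ' (π x) = χ x := fun x =>
    hfact _ _ (Function.surjInv_eq (QuotientGroup.mk'_surjective _) (π x))
  have hχ's : Function.Surjective χ' := fun v => by
    obtain ⟨x, rfl⟩ := hsurj v; exact ⟨π x, hχ' x⟩
  have hvec : Nat.card (Fin 12 → Bool) = 2 ^ 12 := by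
    rw [Nat.card_eq_fintype_card]; simp
  have hq12 : Nat.card (Q ⧸ zpowers z') = 2 ^ 12 :=
    le_antisymm hquot (hvec ▸ Nat.card_le_card_of_surjective χ' hχ's)
  have hQ13 : Nat.card Q = 2 ^ 13 := by
    rw [card_eq_card_quotient_mul_card_subgroup (zpowers z'), Nat.card_zpowers, hzord, hq12]
    norm_num
  have hχ'i : Function.Injective χ' :=
    (hχ's.bijective_of_nat_card_le (by rw [hq12, hvec])).1
  have hcenter : center ↥Q = zpowers z' := by
    refine le_antisymm (fun x hx => ?_) (zpowers_le.2 (mem_center_iff.2 fun w => (hzc w).symm))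
    have hc : χ x = χ 1 := by
      funext i; simp [χ, mem_center_iff.1 hx (g i)]
    have e := hχ'i ((hχ' x).trans (hc.trans (hχ' 1).symm))
    rw [map_one] at e
    exact (QuotientGroup.eq_one_iff x).1 e
  have hab : ∀ a b : Q ⧸ zpowers z', a * b = b * a := by
    intro a b
    have htop : closure (Set.range fun i => π (g i)) = ⊤ := by
      rw [eq_top_iff, ← map_top_of_surjective π (QuotientGroup.mk'_surjective _), ← hgen,
        MonoidHom.map_closure, closure_le]
      rintro _ ⟨w, (rfl | ⟨i, rfl⟩), rfl⟩
      · rw [hπz]; exact one_mem _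
      · exact subset_closure ⟨i, rfl⟩
    have hA := Subgroup.isMulCommutative_closure (k := Set.range fun i => π (g i))
      (by rintro _ ⟨i, rfl⟩ _ ⟨j, rfl⟩; exact hπc i j)
    exact congrArg Subtype.val (hA.is_comm.comm ⟨a, htop ▸ mem_top a⟩ ⟨b, htop ▸ mem_top b⟩)
  have hsqQ : ∀ x : Q, x ^ 2 ∈ center ↥Q := by
    intro x
    rw [hcenter, ← QuotientGroup.eq_one_iff]
    show π (x ^ 2) = 1
    have hx := mem_top x
    rw [← hgen] at hx
    induction hx using closure_induction with
    | mem w hw =>
      rcases hw with rfl | ⟨i, rfl⟩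
      · rw [map_pow, hπz, one_pow]
      · rw [map_pow, pow_two]; exact hπ2 i
    | one => simp
    | mul u v _ _ hu hv =>
      rw [map_pow, map_mul, (show Commute (π u) (π v) from hab _ _).mul_pow, ← map_pow, ← map_pow,
        hu, hv, one_mul]
    | inv u _ hu => rw [map_pow, map_inv, inv_pow, ← map_pow, hu, inv_one]
  have hcomle : _root_.commutator ↥Q ≤ center ↥Q := by
    rw [hcenter, _root_.commutator_def, commutator_le]
    intro a _ b _
    rw [← QuotientGroup.eq_one_iff]
    show π ⁅a, b⁆ = 1
    rw [map_commutatorElement, commutatorElement_eq_one_iff_mul_comm]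
    exact hab _ _
  have hP : IsPGroup 2 ↥Q := IsPGroup.of_card hQ13
  have hzcom : z' ∈ _root_.commutator ↥Q := by
    have he : ⁅g 0, g (partner 0)⁆ = z' := by
      rw [commutatorElement_def]
      have := (show g 0 * g (partner 0) = z' * (g (partner 0) * g 0) from
        Subtype.ext (h.partner_comm 0))
      rw [this]; group
    rw [← he, _root_.commutator_def]
    exact commutator_mem_commutator (mem_top _) (mem_top _)
  have hge : center ↥Q ≤ _root_.commutator ↥Q := by rw [hcenter]; exact zpowers_le.2 hzcom
  refine ⟨⟨⟨hP, le_antisymm ?_ (hge.trans (H6.commutator_le_frattini hP)),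
    le_antisymm hcomle hge⟩, ?_⟩, hQ13⟩
  · exact H30.frattini_le_of_quotient (p := 2) hcomle hsqQ
  · rw [hcenter, Nat.card_zpowers, hzord]

end H42.J4Cent
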