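import Cfsg.Agent.H54.J4.Rep
import Cfsg.Agent.H42.J4Cent.Data
import Cfsg.Prelude.Def_Sporadic

/-!
Words in the presented fourth Janko group and their codes in dimension 112; a simple group is mapped
injectively, so equal codes give equal elements.
-/

set_option autoImplicit false
set_option maxRecDepth 100000

open Cfsg H26.BitCode H54.J4.Rep

namespace H42.J4Cent

/-- The presented group. -/
abbrev J : Type := Cfsg.Spor.J4

/-- The relators. -/
abbrev rels : Set (FreeGroup Cfsg.Spor.J4.Gen) :=
  Cfsg.Spor.coxRelators Cfsg.Spor.J4.edges ∪ {r | r ∈ Cfsg.Spor.J4.extra}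

/-- x -/
def gx : J := PresentedGroup.mk rels Cfsg.Spor.J4.x
/-- y -/
def gy : J := PresentedGroup.mk rels Cfsg.Spor.J4.y
/-- t -/
def gt : J := PresentedGroup.mk rels Cfsg.Spor.J4.t

/-- The linear action. -/
noncomputable def rho : J →* Matˣ := PresentedGroup.toGroup rels_hold

/-- Letters 0 to 3. -/
def let0 (i : ℕ) : J := if i = 0 then gx else if i = 1 then gy else if i = 2 then gy * gy else gt

/-- The word of the central involution. -/
def sG : J := (Data.sWord.map let0).prod

/-- Letters: x, y, y², t, s. -/
def letG (i : ℕ) : J := if i = 4 then sG else let0 i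

/-- The value of a word. -/
def evG (w : List ℕ) : J := (w.map letG).prod

/-- Letters 0 to 3 as codes. -/
noncomputable def let0C (i : ℕ) : ℕ :=
  if i = 0 then cX else if i = 1 then cY else if i = 2 then mulC cY cY else cT

/-- Letters as codes. -/
noncomputable def letC (i : ℕ) : ℕ := if i = 4 then Data.cS else let0C i

/-- The code of a word. -/
noncomputable def evC (w : List ℕ) : ℕ := w.foldr (fun i c => mulC (letC i) c) cI

theorem is_one : Is (1 : Matˣ) cI := by
  show ((1 : Matˣ) : Mat) = _
  rw [Units.val_one, matC_cI]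

theorem rho_gx : rho gx = uX := PresentedGroup.toGroup.of rels_hold
theorem rho_gy : rho gy = uY := PresentedGroup.toGroup.of rels_hold
theorem rho_gt : rho gt = uT := PresentedGroup.toGroup.of rels_hold

theorem is_let0 (i : ℕ) : Is (rho (let0 i)) (let0C i) := by
  unfold let0 let0C
  split_ifs
  · rw [rho_gx]; exact isX
  · rw [rho_gy]; exact isY
  · rw [map_mul, rho_gy]; exact isY.mul isY
  · rw [rho_gt]; exact isT

theorem sWord_code : Data.sWord.foldr (fun i c => mulC (let0C i) c) cI = Data.cS := by decide +kernel

theorem is_s : Is (rho sG) Data.cS := by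
  have key : ∀ w : List ℕ, Is (rho (w.map let0).prod) (w.foldr (fun i c => mulC (let0C i) c) cI) := by
    intro w
    induction w with
    | nil => rw [List.map_nil, List.prod_nil, map_one]; exact is_one
    | cons i w ih => rw [List.map_cons, List.prod_cons, map_mul]; exact (is_let0 i).mul ih
  have h := key Data.sWord
  rw [sWord_code] at h
  exact h

theorem is_let (i : ℕ) : Is (rho (letG i)) (letC i) := by
  unfold letG letC
  split_ifs
  · exact is_s
  · exact is_let0 i

theorem is_ev (w : List ℕ) : Is (rho (evG w)) (evC w) := by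
  induction w with
  | nil => rw [evG, List.map_nil, List.prod_nil, map_one]; exact is_one
  | cons i w ih =>
    rw [show evG (i :: w) = letG i * evG w from rfl, map_mul]
    exact (is_let i).mul ih

theorem is_ev_of {w : List ℕ} {c : ℕ} (h : evC w = c) : Is (rho (evG w)) c := h ▸ is_ev w

theorem rho_injective (hJ : Cfsg.IsJ4 J) : Function.Injective rho := by
  haveI := hJ.1
  rw [← MonoidHom.ker_eq_bot_iff]
  rcases IsSimpleGroup.eq_bot_or_eq_top_of_normal rho.ker inferInstance with h | h
  · exact h
  · exfalso
    apply uX_ne_one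
    rw [← rho_gx, ← MonoidHom.mem_ker, h]
    exact Subgroup.mem_top _

theorem eq_of_is (hi : Function.Injective rho) {g h : J} {c : ℕ} (hg : Is (rho g) c)
    (hh : Is (rho h) c) : g = h := hi (Units.ext (hg.trans hh.symm))

theorem ne_of_is {g h : J} {c d : ℕ} (hg : Is (rho g) c) (hh : Is (rho h) d)
    (hc : c < 2 ^ (112 * 112)) (hd : d < 2 ^ (112 * 112)) (hne : c ≠ d) : g ≠ h := by
  rintro rfl
  exact hne (matC_inj (by norm_num) hc hd (hg.symm.trans hh))

end H42.J4Cent
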