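import Cfsg.Agent.H42.J4Cent.CountAbs
import Cfsg.Agent.H42.J4Cent.CountData
import Cfsg.Agent.H42.J4Cent.Words
import Cfsg.Agent.H54.J4.Lower

/-!
The class of `s` under `N = ⟨x, y, s⟩` as 1771 products of eleven commuting involutions, and the
numbers of its members that stay inside it under the representatives of the double cosets of `N`;
this bounds the centraliser of `s`.
-/

set_option autoImplicit false
set_option maxRecDepth 100000
set_option maxHeartbeats 800000

open Cfsg Subgroup H26.BitCode H54.J4.Rep
open H93.Coset (force force_eq)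
open scoped Classical

namespace H42.J4Cent.Count

section General

variable {G : Type*} [Group G]

/-- The product of the listed elements selected by the bits of `m`. -/
def P : List G → ℕ → G
  | [], _ => 1
  | e :: es, m => (if m % 2 = 1 then e else 1) * P es (m / 2)

/-- The same selection in a table of masks, added up. -/
def lin : List ℕ → ℕ → ℕ
  | [], _ => 0
  | i :: is, m => (if m % 2 = 1 then i else 0) ^^^ lin is (m / 2)

theorem P_mem {H : Subgroup G} {es : List G} (h : ∀ e ∈ es, e ∈ H) : ∀ m, P es m ∈ H := by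
  induction es with
  | nil => intro m; exact one_mem _
  | cons e es ih =>
    intro m
    refine mul_mem ?_ (ih (fun a ha => h a (List.mem_cons_of_mem _ ha)) _)
    split_ifs
    · exact h e List.mem_cons_self
    · exact one_mem _

theorem P_zero (es : List G) : P es 0 = 1 := by
  induction es with
  | nil => rfl
  | cons e es ih => simp [P, ih]

theorem P_commute {es : List G} {a : G} (h : ∀ e ∈ es, Commute a e) :
    ∀ m, Commute a (P es m) := by
  induction es with
  | nil => intro m; exact Commute.one_right _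
  | cons e es ih =>
    intro m
    refine Commute.mul_right ?_ (ih (fun b hb => h b (List.mem_cons_of_mem _ hb)) _)
    split_ifs
    · exact h e List.mem_cons_self
    · exact Commute.one_right _

theorem P_xor {es : List G} (hc : ∀ a ∈ es, ∀ b ∈ es, Commute a b) (hs : ∀ a ∈ es, a * a = 1) :
    ∀ a b, P es (a ^^^ b) = P es a * P es b := by
  induction es with
  | nil => intro a b; simp [P]
  | cons e es ih =>
    intro a b
    have he : Commute e (P es (a / 2)) :=
      P_commute (fun c hc' => hc e List.mem_cons_self c (List.mem_cons_of_mem _ hc')) _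
    have h1 : (a ^^^ b) % 2 = 1 ↔ ¬(a % 2 = 1 ↔ b % 2 = 1) := by
      have := Nat.testBit_xor a b 0
      simp only [Nat.testBit_zero] at this
      by_cases ha : a % 2 = 1 <;> by_cases hb : b % 2 = 1 <;> simp [ha, hb] at this ⊢ <;> omega
    have h2 : (a ^^^ b) / 2 = a / 2 ^^^ b / 2 := Nat.eq_of_testBit_eq fun i => by
      simp [← Nat.testBit_succ]
    have hee := hs e List.mem_cons_self
    rw [P, P, P, h2, ih (fun c hc' d hd => hc c (List.mem_cons_of_mem _ hc') d
      (List.mem_cons_of_mem _ hd)) fun c hc' => hs c (List.mem_cons_of_mem _ hc')]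
    by_cases ha : a % 2 = 1 <;> by_cases hb : b % 2 = 1
    · rw [if_neg (by rw [h1]; simp [ha, hb]), if_pos ha, if_pos hb, one_mul,
        mul_assoc e (P es (a / 2)), ← mul_assoc (P es (a / 2)) e, ← he.eq, mul_assoc e (P es (a / 2)),
        ← mul_assoc e e, hee, one_mul]
    · rw [if_pos (h1.2 (by simp [ha, hb])), if_pos ha, if_neg hb, one_mul, mul_assoc]
    · rw [if_pos (h1.2 (by simp [ha, hb])), if_neg ha, if_pos hb, one_mul,
        ← mul_assoc (P es (a / 2)) e, ← he.eq, mul_assoc]
    · rw [if_neg (by rw [h1]; simp [ha, hb]), if_neg ha, if_neg hb, one_mul, one_mul, one_mul]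

theorem P_map {H : Type*} [Group H] (φ : G →* H) (es : List G) :
    ∀ m, φ (P es m) = P (es.map φ) m := by
  induction es with
  | nil => intro m; simp [P]
  | cons e es ih =>
    intro m
    rw [P, map_mul, ih, List.map_cons, P]
    split_ifs <;> simp

theorem P_lin {es : List G} (hc : ∀ a ∈ es, ∀ b ∈ es, Commute a b) (hs : ∀ a ∈ es, a * a = 1) :
    ∀ (T : List ℕ) (m : ℕ), P (T.map (P es)) m = P es (lin T m) := by
  intro T
  induction T with
  | nil => intro m; exact (P_zero es).symm
  | cons i T ih =>
    intro m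
    rw [List.map_cons, P, lin, P_xor hc hs, ih]
    split_ifs
    · rfl
    · rw [P_zero]

theorem conj_closure [Finite G] (S : Set G) {O : Set G}
    (h : ∀ g ∈ S, ∀ e ∈ O, g * e * g⁻¹ ∈ O) :
    ∀ n ∈ closure S, ∀ e ∈ O, n * e * n⁻¹ ∈ O := by
  intro n hn
  induction hn using closure_induction with
  | mem g hg => exact h g hg
  | one => intro e he; simpa using he
  | mul a b _ _ ha hb =>
    intro e he
    rw [show a * b * e * (a * b)⁻¹ = a * (b * e * b⁻¹) * a⁻¹ by group]
    exact ha _ (hb e he)
  | inv a _ ha =>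
    have hpow : ∀ k : ℕ, ∀ e ∈ O, a ^ k * e * (a ^ k)⁻¹ ∈ O := by
      intro k
      induction k with
      | zero => intro e he; simpa using he
      | succ k ih =>
        intro e he
        rw [pow_succ, show a ^ k * a * e * (a ^ k * a)⁻¹ = a ^ k * (a * e * a⁻¹) * (a ^ k)⁻¹ by
          group]
        exact ih _ (ha e he)
    have hi : a ^ (orderOf a - 1) = a⁻¹ := eq_inv_of_mul_eq_one_left (by
      rw [← pow_succ, Nat.sub_add_cancel (orderOf_pos a), pow_orderOf_eq_one])
    intro e he
    have := hpow (orderOf a - 1) e he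
    rwa [hi] at this

end General

/-! ### Programs -/

/-- The code times the selected codes. -/
noncomputable def pickC (cs : List ℕ) : ℕ → ℕ → ℕ :=
  List.rec (motive := fun _ => ℕ → ℕ → ℕ) (fun a _ => a)
    (fun c _ ih a m => ih (bif Nat.beq (m % 2) 1 then mulC a c else a) (m / 2)) cs

theorem pickC_cons (c : ℕ) (cs : List ℕ) (a m : ℕ) :
    pickC (c :: cs) a m = pickC cs (bif Nat.beq (m % 2) 1 then mulC a c else a) (m / 2) := rfl

/-- `f` holds at every selection. -/
noncomputable def dfs (cs : List ℕ) : ℕ → (ℕ → ℕ → Bool) → Bool :=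
  List.rec (motive := fun _ => ℕ → (ℕ → ℕ → Bool) → Bool) (fun a f => f a 0)
    (fun c _ ih a f => ih a (fun a' m => f a' (2 * m)) &&
      force (mulC a c) fun b => ih b fun a' m => f a' (2 * m + 1)) cs

theorem dfs_spec : ∀ (cs : List ℕ) (a : ℕ) (f : ℕ → ℕ → Bool), dfs cs a f = true →
    ∀ m < 2 ^ cs.length, f (pickC cs a m) m = true := by
  intro cs
  induction cs with
  | nil =>
    intro a f h m hm
    simp only [List.length_nil, pow_zero, Nat.lt_one_iff] at hm
    subst hm
    exact h
  | cons c cs ih =>
    intro a f h m hm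
    change (dfs cs a (fun a' m => f a' (2 * m)) &&
      force (mulC a c) (fun b => dfs cs b fun a' m => f a' (2 * m + 1))) = true at h
    rw [force_eq, Bool.and_eq_true] at h
    have hm' : m / 2 < 2 ^ cs.length := by
      rw [List.length_cons, pow_succ] at hm; omega
    rcases Nat.mod_two_eq_zero_or_one m with e | e
    · have := ih _ _ h.1 (m / 2) hm'
      rw [show 2 * (m / 2) = m by omega] at this
      rw [pickC_cons, e]; exact this
    · have := ih _ _ h.2 (m / 2) hm'
      rw [show 2 * (m / 2) + 1 = m by omega] at this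
      rw [pickC_cons, e]; exact this

theorem pickC_lt : ∀ (cs : List ℕ) (a m : ℕ), a < 2 ^ (112 * 112) →
    pickC cs a m < 2 ^ (112 * 112) := by
  intro cs
  induction cs with
  | nil => intro a m h; exact h
  | cons c cs ih =>
    intro a m h
    rw [pickC_cons]
    refine ih _ _ ?_
    cases Nat.beq (m % 2) 1
    · exact h
    · exact H54.J4.Lower.mulC_lt _ _

theorem matC_pickC : ∀ (ws : List (List ℕ)) (a m : ℕ),
    matC 112 (pickC (ws.map evC) a m) =
      (matC 112 a * ((rho (P (ws.map evG) m) : Matˣ) : Mat) : Mat) := by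
  intro ws
  induction ws with
  | nil =>
    intro a m
    simp only [List.map_nil, P, map_one, Units.val_one, mul_one]
    rfl
  | cons w ws ih =>
    intro a m
    rw [List.map_cons, List.map_cons, pickC_cons, P, ih]
    rcases Nat.mod_two_eq_zero_or_one m with e | e
    · rw [e, if_neg (by norm_num), one_mul]
      rfl
    · rw [e, if_pos rfl, map_mul, Units.val_mul]
      show matC 112 (mulC a (evC w)) * _ = _
      rw [matC_mulC, ← is_ev w, mul_assoc]

/-! ### The class -/

/-- The eleven involutions. -/
def esG : List J := CountData.ew.map evG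

/-- The subgroup generated by x, y and s. -/
def N : Subgroup J := closure {gx, gy, sG}

theorem codes_ok : CountData.ew.map evC = CountData.cE := by decide +kernel

theorem basis_ok :
    ((List.range 11).all fun i => (List.range 11).all fun j =>
      Nat.beq (mulC (CountData.cE.getD i 0) (CountData.cE.getD j 0))
        (mulC (CountData.cE.getD j 0) (CountData.cE.getD i 0))) = true ∧
    ((List.range 11).all fun i => Nat.beq (mulC (CountData.cE.getD i 0) (CountData.cE.getD i 0)) cI)
      = true ∧
    ((List.range 11).all fun i => Nat.beq (mulC CountData.vVec (CountData.cE.getD i 0))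
      CountData.vVec) = true := by decide +kernel

theorem conj_ok :
    ((List.range 11).all fun i =>
      Nat.beq (mulC (mulC cX (CountData.cE.getD i 0)) cX)
          (pickC CountData.cE cI (CountData.xT.getD i 0)) &&
        Nat.beq (mulC (mulC (mulC cY cY) (CountData.cE.getD i 0)) cY)
          (pickC CountData.cE cI (CountData.yT.getD i 0)) &&
        Nat.blt (CountData.xT.getD i 0) 2048 && Nat.blt (CountData.yT.getD i 0) 2048) = true := by
  decide +kernel

theorem indep_ok : dfs CountData.cE CountData.uVec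
    (fun a m => Nat.beq m 0 || !Nat.beq a CountData.uVec) = true := by decide +kernel

theorem orb_ok :
    ((List.range 2048).all fun m => !CountData.orb.testBit m ||
      (CountData.orb.testBit (lin CountData.xT m) && CountData.orb.testBit (lin CountData.yT m) &&
        Nat.blt (lin CountData.xT m) 2048 && Nat.blt (lin CountData.yT m) 2048)) = true ∧
    CountData.orb.testBit 1 = true ∧
    ((Finset.range 2048).filter fun m => CountData.orb.testBit m = true).card = 1771 := by
  decide +kernel

/-- Follow the steps, collecting the masks reached. -/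
noncomputable def follow (l : List (ℕ × ℕ × ℕ)) : ℕ → ℕ → Bool :=
  List.rec (motive := fun _ => ℕ → ℕ → Bool) (fun seen goal => Nat.beq seen goal)
    (fun st _ ih seen goal => seen.testBit st.2.1 &&
      Nat.beq st.1 (lin (if st.2.2 = 0 then CountData.xT else CountData.yT) st.2.1) &&
      force (seen ||| (1 <<< st.1)) (fun seen' => ih seen' goal)) l

theorem follow_ok : follow CountData.steps 2 CountData.orb = true := by decide +kernel

theorem follow_spec (Q : ℕ → Prop) (hx : ∀ m, Q m → Q (lin CountData.xT m))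
    (hy : ∀ m, Q m → Q (lin CountData.yT m)) : ∀ (l : List (ℕ × ℕ × ℕ)) (seen goal : ℕ),
    follow l seen goal = true → (∀ m, seen.testBit m = true → Q m) →
      ∀ m, goal.testBit m = true → Q m := by
  intro l
  induction l with
  | nil =>
    intro seen goal h hs
    change Nat.beq seen goal = true at h
    exact Nat.eq_of_beq_eq_true h ▸ hs
  | cons st l ih =>
    intro seen goal h hs
    change (seen.testBit st.2.1 &&
      Nat.beq st.1 (lin (if st.2.2 = 0 then CountData.xT else CountData.yT) st.2.1) &&
      force (seen ||| (1 <<< st.1)) (fun seen' => follow l seen' goal)) = true at h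
    simp only [Bool.and_eq_true, force_eq, Nat.beq_eq] at h
    refine ih _ _ h.2 fun m hm => ?_
    rw [Nat.testBit_or, Bool.or_eq_true] at hm
    rcases hm with hm | hm
    · exact hs m hm
    · rw [Nat.one_shiftLeft, Nat.testBit_two_pow, decide_eq_true_eq] at hm
      rw [← hm, h.1.2]
      split_ifs
      · exact hx _ (hs _ h.1.1)
      · exact hy _ (hs _ h.1.1)

theorem getD_mem {α : Type} (l : List α) (d a : α) (ha : a ∈ l) : ∃ i < l.length, l.getD i d = a := by
  obtain ⟨i, hi, rfl⟩ := List.getElem_of_mem ha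
  exact ⟨i, hi, List.getD_eq_getElem _ _ hi⟩

theorem ew_length : CountData.ew.length = 11 ∧ CountData.cE.length = 11 ∧
    CountData.xT.length = 11 ∧ CountData.yT.length = 11 := by decide +kernel

/-- The word of the involution `i`. -/
def eW (i : ℕ) : List ℕ := CountData.ew.getD i []

theorem code_eW {i : ℕ} (hi : i < 11) : evC (eW i) = CountData.cE.getD i 0 := by
  have h : i < CountData.ew.length := ew_length.1.symm ▸ hi
  rw [← codes_ok, eW, List.getD_eq_getElem _ _ h,
    List.getD_eq_getElem _ _ (by simpa using h), List.getElem_map]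

theorem is_eW {i : ℕ} (hi : i < 11) : Is (rho (evG (eW i))) (CountData.cE.getD i 0) :=
  code_eW hi ▸ is_ev _

theorem mem_esG {a : J} (ha : a ∈ esG) : ∃ i < 11, evG (eW i) = a := by
  obtain ⟨w, hw, rfl⟩ := List.mem_map.1 ha
  obtain ⟨i, hi, rfl⟩ := getD_mem CountData.ew [] w hw
  exact ⟨i, ew_length.1 ▸ hi, rfl⟩

variable (hi : Function.Injective rho)
include hi

theorem esG_comm : ∀ a ∈ esG, ∀ b ∈ esG, Commute a b := by
  intro a ha b hb
  obtain ⟨i, hi', rfl⟩ := mem_esG ha
  obtain ⟨j, hj', rfl⟩ := mem_esG hb
  have h := List.all_eq_true.1 (List.all_eq_true.1 basis_ok.1 i (List.mem_range.2 hi')) j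
    (List.mem_range.2 hj')
  refine eq_of_is hi (h := evG (eW j) * evG (eW i)) ((map_mul rho _ _).symm ▸ (is_eW hi').mul (is_eW hj')) ?_
  rw [map_mul, Nat.eq_of_beq_eq_true h]
  exact (is_eW hj').mul (is_eW hi')

theorem esG_sq : ∀ a ∈ esG, a * a = 1 := by
  intro a ha
  obtain ⟨i, hi', rfl⟩ := mem_esG ha
  refine hi ?_
  rw [map_mul, map_one]
  exact eq_one_of_is ((is_eW hi').mul (is_eW hi'))
    (Nat.eq_of_beq_eq_true (List.all_eq_true.1 basis_ok.2.1 i (List.mem_range.2 hi')))

theorem gy_inv : (gy * gy)⁻¹ = gy ∧ gx⁻¹ = gx := by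
  refine ⟨inv_eq_of_mul_eq_one_right (hi ?_), inv_eq_of_mul_eq_one_right (hi ?_)⟩
  · rw [map_one, map_mul, map_mul, rho_gy]
    exact eq_one_of_is ((isY.mul isY).mul isY) yyy.2
  · rw [map_one, map_mul, rho_gx]
    exact eq_one_of_is (isX.mul isX) xx

theorem is_P (m : ℕ) : Is (rho (P esG m)) (pickC CountData.cE cI m) := by
  show ((rho (P esG m) : Matˣ) : Mat) = _
  rw [← codes_ok, matC_pickC, matC_cI, one_mul]
  rfl

theorem conj_letters (m : ℕ) : gx * P esG m * gx⁻¹ = P esG (lin CountData.xT m) ∧
    (gy * gy) * P esG m * (gy * gy)⁻¹ = P esG (lin CountData.yT m) := by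
  have key : ∀ (g : J) (T : List ℕ), T.length = 11 →
      (∀ i < 11, g * evG (eW i) * g⁻¹ = P esG (T.getD i 0)) →
      g * P esG m * g⁻¹ = P esG (lin T m) := by
    intro g T hT hg
    show (MulAut.conj g).toMonoidHom (P esG m) = _
    rw [P_map, ← P_lin (esG_comm hi) (esG_sq hi)]
    congr 1
    refine List.ext_getElem (by simp [esG, ew_length.1, hT]) fun i h1 h2 => ?_
    have hi' : i < 11 := by simpa [esG, ew_length.1] using h1
    simp only [esG, List.getElem_map]
    have := hg i hi'
    rw [List.getD_eq_getElem _ _ (hT.symm ▸ hi'), eW,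
      List.getD_eq_getElem _ _ (ew_length.1.symm ▸ hi')] at this
    exact this
  refine ⟨key _ _ ew_length.2.2.1 fun i hi' => ?_, key _ _ ew_length.2.2.2 fun i hi' => ?_⟩
  all_goals
    have h := List.all_eq_true.1 conj_ok i (List.mem_range.2 hi')
    simp only [Bool.and_eq_true, Nat.beq_eq] at h
    refine eq_of_is hi ?_ (is_P hi _)
  · rw [map_mul, map_mul, (gy_inv hi).2, rho_gx, ← h.1.1.1]
    exact (isX.mul (is_eW hi')).mul isX
  · rw [map_mul, map_mul, map_mul, (gy_inv hi).1, rho_gy, ← h.1.1.2]
    exact ((isY.mul isY).mul (is_eW hi')).mul isY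

/-- The masks of the class. -/
theorem P_inj {a b : ℕ} (ha : a < 2048) (hb : b < 2048) (h : P esG a = P esG b) : a = b := by
  have hx : P esG (a ^^^ b) = 1 := by
    rw [P_xor (esG_comm hi) (esG_sq hi), h, ← P_xor (esG_comm hi) (esG_sq hi), Nat.xor_self, P_zero]
  have hlt : a ^^^ b < 2 ^ 11 := Nat.xor_lt_two_pow ha hb
  have hd := dfs_spec _ _ _ indep_ok _ (ew_length.2.1.symm ▸ hlt)
  have heq : pickC CountData.cE CountData.uVec (a ^^^ b) = CountData.uVec := by
    refine matC_inj (m := 112) (by norm_num) (pickC_lt _ _ _ (by decide +kernel)) (by decide +kernel) ?_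
    rw [← codes_ok, matC_pickC]
    show matC 112 _ * ((rho (P esG (a ^^^ b)) : Matˣ) : Mat) = _
    rw [hx, map_one, Units.val_one, mul_one]
  rw [heq, Bool.or_eq_true] at hd
  rcases hd with hd | hd
  · exact Nat.xor_eq_zero_iff.1 (Nat.eq_of_beq_eq_true hd)
  · simp at hd

omit hi in
/-- The class. -/
noncomputable def O : Finset J :=
  ((Finset.range 2048).filter fun m => CountData.orb.testBit m = true).image (P esG)

omit hi in
theorem mem_O {e : J} :
    e ∈ O ↔ ∃ m, m < 2048 ∧ CountData.orb.testBit m = true ∧ P esG m = e := by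
  simp [O, and_assoc]

theorem card_O : O.card = 1771 := by
  rw [O, Finset.card_image_of_injOn, orb_ok.2.2]
  intro a ha b hb h
  simp only [Finset.coe_filter, Finset.mem_range, Set.mem_setOf_eq] at ha hb
  exact P_inj hi ha.1 hb.1 h

omit hi in
theorem N_gens : gx ∈ N ∧ gy ∈ N ∧ sG ∈ N :=
  ⟨subset_closure (by simp), subset_closure (by simp), subset_closure (by simp)⟩

omit hi in
theorem evG_mem_N : ∀ w : List ℕ, (w.all fun i => i == 0 || i == 1 || i == 2 || i == 4) = true →
    evG w ∈ N := by
  intro w
  induction w with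
  | nil => intro _; exact one_mem _
  | cons i w ih =>
    intro h
    simp only [List.all_cons, Bool.and_eq_true, Bool.or_eq_true, beq_iff_eq] at h
    rw [show evG (i :: w) = letG i * evG w from rfl]
    refine mul_mem ?_ (ih h.2)
    obtain ⟨hx, hy, hs⟩ := N_gens
    rcases h.1 with ((rfl | rfl) | rfl) | rfl
    · exact hx
    · exact hy
    · exact mul_mem hy hy
    · exact hs

omit hi in
theorem P_mem_N (m : ℕ) : P esG m ∈ N := by
  refine P_mem (fun e he => ?_) m
  obtain ⟨w, hw, rfl⟩ := List.mem_map.1 he
  have hall : (CountData.ew.all fun w => w.all fun i => i == 0 || i == 1 || i == 2 || i == 4) =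
      true := by decide +kernel
  exact evG_mem_N w (List.all_eq_true.1 hall w hw)

theorem s_eq : P esG 1 = sG := by
  refine eq_of_is hi (is_P hi 1) ?_
  rw [show pickC CountData.cE cI 1 = Data.cS by decide +kernel]
  exact is_s

theorem O_spec [Finite J] : (∀ n ∈ N, n * sG * n⁻¹ ∈ O) ∧ ∀ e ∈ O, ∃ n ∈ N, n * sG * n⁻¹ = e := by
  have hN2 : gy * gy ∈ N := mul_mem N_gens.2.1 N_gens.2.1
  constructor
  · intro n hn
    refine conj_closure ({gx, gy * gy, sG} : Set J) (O := (↑O : Set J)) ?_ n ?_ sG
      (mem_O.2 ⟨1, by norm_num, orb_ok.2.1, s_eq hi⟩)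
    · intro g hg e he
      obtain ⟨m, hm, hb, rfl⟩ := mem_O.1 he
      have h := List.all_eq_true.1 orb_ok.1 m (List.mem_range.2 hm)
      simp only [hb, Bool.not_true, Bool.false_or, Bool.and_eq_true, Nat.blt_eq] at h
      rcases hg with rfl | rfl | rfl
      · exact mem_O.2 ⟨_, h.1.2, h.1.1.1, ((conj_letters hi m).1).symm⟩
      · exact mem_O.2 ⟨_, h.2, h.1.1.2, ((conj_letters hi m).2).symm⟩
      · refine mem_O.2 ⟨m, hm, hb, ?_⟩
        have hc : Commute sG (P esG m) := s_eq hi ▸ (P_commute
          (fun a ha => (P_commute (fun b hb' => esG_comm hi a ha b hb') 1).symm) m)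
        rw [hc.eq, mul_inv_cancel_right]
    · revert n
      show N ≤ _
      rw [N, closure_le]
      rintro g (rfl | rfl | rfl)
      · exact subset_closure (by simp)
      · have h2 : gy * gy ∈ closure ({gx, gy * gy, sG} : Set J) := subset_closure (by simp)
        have h3 := inv_mem h2
        rwa [(gy_inv hi).1] at h3
      · exact subset_closure (by simp)
  · intro e he
    obtain ⟨m, -, hb, rfl⟩ := mem_O.1 he
    refine follow_spec (fun m => ∃ n ∈ N, n * sG * n⁻¹ = P esG m) ?_ ?_ _ _ _ follow_ok ?_ m hb
    · rintro a ⟨n, hn, ha⟩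
      refine ⟨gx * n, mul_mem N_gens.1 hn, ?_⟩
      rw [← (conj_letters hi a).1, ← ha]; group
    · rintro a ⟨n, hn, ha⟩
      refine ⟨gy * gy * n, mul_mem hN2 hn, ?_⟩
      rw [← (conj_letters hi a).2, ← ha]; group
    · intro a ha
      have : a = 1 := by
        rw [show (2 : ℕ) = 2 ^ 1 from rfl, Nat.testBit_two_pow, decide_eq_true_eq] at ha
        exact ha.symm
      subst this
      exact ⟨1, one_mem _, by rw [s_eq hi]; simp⟩

theorem card_N : Nat.card N = 2048 * 244823040 := by
  have hcode : Data.cS = H54.J4.LowerData.cE0 := by decide +kernel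
  have hs : rho sG = H54.J4.Lower.uS :=
    Units.ext ((is_s.trans (congrArg (matC 112) hcode)).trans H54.J4.Lower.isS.symm)
  rw [Nat.card_congr (N.equivMapOfInjective rho hi).toEquiv, ← H54.J4.Lower.card_map_jN,
    H54.J4.Lower.map_jN]
  rw [N, MonoidHom.map_closure]
  simp only [Set.image_insert_eq, Set.image_singleton, rho_gx, rho_gy, hs]

/-! ### The count for one representative -/

omit hi in
/-- Every selection of the class is an exception or fails one of the tests. -/
noncomputable def test (Q : ℕ) (Bs UBs keep : List ℕ) : Bool :=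
  dfs CountData.cE Q fun a m =>
    !CountData.orb.testBit m || keep.any (fun k => Nat.beq k m) || !Nat.beq a Q ||
      (List.range Bs.length).any fun j =>
        !Nat.beq (mulC (pickC CountData.cE CountData.uVec m) (Bs.getD j 0))
          (pickC CountData.cE (UBs.getD j 0) m)

omit hi in
/-- All checks for a representative `i`. -/
noncomputable def repOK (i : ℕ) : Bool :=
  let w := CountData.wr.getD i []
  let cg := CountData.cG.getD i 0
  let ch := CountData.cGi.getD i 0
  Nat.beq (evC w) cg && Nat.beq (evC (CountData.wi.getD i [])) ch && Nat.beq (mulC cg ch) cI &&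
    Nat.beq (mulC CountData.vVec cg) (CountData.qVec.getD i 0) &&
    Nat.beq (CountData.cB.getD i []).length (CountData.jB.getD i []).length &&
    ((List.range (CountData.cB.getD i []).length).all fun j =>
      Nat.blt ((CountData.jB.getD i []).getD j 0) 11 &&
      Nat.beq ((CountData.cB.getD i []).getD j 0)
        (mulC (mulC ch (CountData.cE.getD ((CountData.jB.getD i []).getD j 0) 0)) cg) &&
      Nat.beq ((CountData.uB.getD i []).getD j 0)
        (mulC CountData.uVec ((CountData.cB.getD i []).getD j 0))) &&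
    test (CountData.qVec.getD i 0) (CountData.cB.getD i []) (CountData.uB.getD i [])
      (CountData.keep.getD i [])

theorem count_le {i : ℕ} (h : repOK i = true) :
    (O.filter fun e => (evG (CountData.wi.getD i []))⁻¹ * e * evG (CountData.wi.getD i []) ∈ O).card
      ≤ (CountData.keep.getD i []).length := by
  simp only [repOK, Bool.and_eq_true, Nat.beq_eq, List.all_eq_true, List.mem_range, Nat.blt_eq] at h
  obtain ⟨⟨⟨⟨⟨⟨hcg, hch⟩, hone⟩, hq⟩, -⟩, hB⟩, ht⟩ := h
  set w := CountData.wr.getD i [] with hw
  set g := evG w with hg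
  have isg : Is (rho g) (CountData.cG.getD i 0) := hcg ▸ is_ev w
  have isgi : Is (rho g⁻¹) (CountData.cGi.getD i 0) := by
    have e : g * evG (CountData.wi.getD i []) = 1 := hi (by
      rw [map_mul, map_one]; exact eq_one_of_is (isg.mul (is_ev _)) (hch ▸ hone))
    rw [inv_eq_of_mul_eq_one_right e]
    exact hch ▸ is_ev _
  have hwi : evG (CountData.wi.getD i []) = g⁻¹ := by
    refine eq_of_is hi (hch ▸ is_ev _) isgi
  rw [hwi, inv_inv]
  refine le_trans (Finset.card_le_card (t := (CountData.keep.getD i []).toFinset.image (P esG)) ?_)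
    (le_trans Finset.card_image_le (List.toFinset_card_le _))
  intro e he
  rw [Finset.mem_filter] at he
  obtain ⟨m, hm, hb, rfl⟩ := mem_O.1 he.1
  obtain ⟨m', -, -, he'⟩ := mem_O.1 he.2
  have hd := dfs_spec _ _ _ ht m (by rw [ew_length.2.1]; exact hm)
  simp only [hb, Bool.not_true, Bool.false_or, Bool.or_eq_true, List.any_eq_true, Nat.beq_eq,
    Bool.not_eq_true', List.mem_range] at hd
  rcases hd with (⟨k, hk, rfl⟩ | hne) | ⟨j, hj, hne⟩
  · exact Finset.mem_image.2 ⟨k, List.mem_toFinset.2 hk, rfl⟩
  · exfalso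
    apply Bool.eq_false_iff.1 hne
    rw [Nat.beq_eq]
    have hfix : (matC 112 CountData.vVec * ((rho (P esG m') : Matˣ) : Mat) : Mat) =
        matC 112 CountData.vVec := by
      let S : Subgroup J :=
        { carrier := {a | (matC 112 CountData.vVec * ((rho a : Matˣ) : Mat) : Mat) =
            matC 112 CountData.vVec}
          one_mem' := by simp
          mul_mem' := fun {a b} ha hb => by
            simp only [Set.mem_setOf_eq, map_mul, Units.val_mul, ← mul_assoc] at *
            rw [ha, hb]
          inv_mem' := fun {a} ha => by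
            simp only [Set.mem_setOf_eq, map_inv] at *
            conv_lhs => rw [← ha]
            rw [mul_assoc, Units.mul_inv, mul_one] }
      refine P_mem (H := S) (fun a ha => ?_) m'
      obtain ⟨l, hl, rfl⟩ := mem_esG ha
      show (matC 112 _ * _ : Mat) = _
      rw [is_eW hl, ← matC_mulC,
        Nat.eq_of_beq_eq_true (List.all_eq_true.1 basis_ok.2.2 l (List.mem_range.2 hl))]
    refine matC_inj (m := 112) (by norm_num) (pickC_lt _ _ _ (hq ▸ H54.J4.Lower.mulC_lt _ _))
      (hq ▸ H54.J4.Lower.mulC_lt _ _) ?_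
    rw [← codes_ok, matC_pickC, ← hq, matC_mulC, ← isg]
    show _ * ((rho (P esG m) : Matˣ) : Mat) = _
    rw [mul_assoc, ← Units.val_mul, ← map_mul,
      show g * P esG m = P esG m' * g by rw [he']; group, map_mul, Units.val_mul, ← mul_assoc, hfix]
  · exfalso
    apply Bool.eq_false_iff.1 hne
    rw [Nat.beq_eq]
    obtain ⟨⟨hj11, hcB⟩, huB⟩ := hB j hj
    set l := (CountData.jB.getD i []).getD j 0
    have hcomm : Commute (P esG m) (g⁻¹ * evG (eW l) * g) := by
      have hc : Commute (evG (eW l)) (P esG m') := P_commute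
        (esG_comm hi _ (List.mem_map.2 ⟨eW l, by
          rw [eW, List.getD_eq_getElem _ _ (ew_length.1.symm ▸ hj11)]; exact List.getElem_mem _, rfl⟩)) _
      have h2 := (hc.map (MulAut.conj g⁻¹).toMonoidHom).symm
      rw [he'] at h2
      simpa [mul_assoc] using h2
    have isB : Is (rho (g⁻¹ * evG (eW l) * g)) ((CountData.cB.getD i []).getD j 0) := by
      rw [map_mul, map_mul, hcB]
      exact (isgi.mul (is_eW hj11)).mul isg
    refine matC_inj (m := 112) (by norm_num) (H54.J4.Lower.mulC_lt _ _)
      (pickC_lt _ _ _ (huB ▸ H54.J4.Lower.mulC_lt _ _)) ?_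
    rw [matC_mulC, huB, ← codes_ok, matC_pickC, matC_pickC, matC_mulC, ← isB]
    show _ * ((rho (P esG m) : Matˣ) : Mat) * _ = _ * _ * ((rho (P esG m) : Matˣ) : Mat)
    simp only [mul_assoc, ← Units.val_mul, ← map_mul]
    congr 3
    simpa [mul_assoc] using hcomm.eq

end H42.J4Cent.Count
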