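import Mathlib

/-!
A bound on a centraliser from the double cosets of a subgroup containing the element.
-/

set_option autoImplicit false

open Subgroup
open scoped Classical

namespace H42.J4Cent

variable {G : Type*} [Group G] [Finite G]

/-- Let `O` be the `N`-class of `s`. If the double cosets of `r i` cover `G`, contain at most
`size i` cosets, and at most `k i` elements `e` of `O` have `(r i)⁻¹ e (r i)` again in `O`, then
`|C(s)| · |O| ^ 2 ≤ |N| · ∑ size i · k i`. -/
theorem card_cent_le (N : Subgroup G) (s : G) (O : Finset G)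
    (hOmem : ∀ e ∈ O, ∃ n ∈ N, n * s * n⁻¹ = e) (hOclosed : ∀ n ∈ N, n * s * n⁻¹ ∈ O)
    {ι : Type*} [Fintype ι] (r : ι → G) (size k : ι → ℕ)
    (hcover : ∀ h : G, ∃ i, ∃ n ∈ N, ∃ m ∈ N, h = n * r i * m)
    (hsize : ∀ i, Nat.card {c : G ⧸ N // ∃ n ∈ N, c = ((n * r i : G) : G ⧸ N)} ≤ size i)
    (hk : ∀ i, (O.filter fun e => (r i)⁻¹ * e * r i ∈ O).card ≤ k i) :
    Nat.card ↥(centralizer ({s} : Set G)) * O.card ^ 2 ≤ Nat.card N * ∑ i, size i * k i := by
  classical
  haveI : Fintype (G ⧸ N) := Fintype.ofFinite _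
  haveI : Fintype G := Fintype.ofFinite _
  set C : Subgroup G := centralizer ({s} : Set G) with hC
  have hsO : s ∈ O := by simpa using hOclosed 1 (one_mem _)
  have hconjO : ∀ n ∈ N, ∀ e ∈ O, n * e * n⁻¹ ∈ O := by
    intro n hn e he
    obtain ⟨m, hm, rfl⟩ := hOmem e he
    have := hOclosed (n * m) (mul_mem hn hm)
    rwa [show n * m * s * (n * m)⁻¹ = n * (m * s * m⁻¹) * n⁻¹ by group] at this
  -- representatives
  let kk : G → ℕ := fun h => (O.filter fun e => h⁻¹ * e * h ∈ O).card
  have hkk : ∀ n ∈ N, ∀ m ∈ N, ∀ h, kk (n * h * m) = kk h := by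
    intro n hn m hm h
    refine Finset.card_bij (fun e _ => n⁻¹ * e * n) ?_ ?_ ?_
    · intro e he
      rw [Finset.mem_filter] at he ⊢
      refine ⟨by simpa using hconjO n⁻¹ (inv_mem hn) e he.1, ?_⟩
      have := hconjO m hm _ he.2
      rwa [show m * ((n * h * m)⁻¹ * e * (n * h * m)) * m⁻¹ = h⁻¹ * (n⁻¹ * e * n) * h by group] at this
    · intro a _ b _ hab
      exact mul_left_cancel (mul_right_cancel hab)
    · intro e he
      rw [Finset.mem_filter] at he
      refine ⟨n * e * n⁻¹, ?_, by group⟩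
      rw [Finset.mem_filter]
      refine ⟨hconjO n hn e he.1, ?_⟩
      have := hconjO m⁻¹ (inv_mem hm) _ he.2
      rwa [show m⁻¹ * (h⁻¹ * e * h) * m⁻¹⁻¹ =
        (n * h * m)⁻¹ * (n * e * n⁻¹) * (n * h * m) by group] at this
  let out : G ⧸ N → G := fun c => c.out
  -- pairs
  let P : Finset (G × G ⧸ N) := (O ×ˢ Finset.univ).filter fun w => (out w.2)⁻¹ * w.1 * out w.2 ∈ O
  have hPc : P.card = ∑ c : G ⧸ N, kk (out c) := by
    have h : ∀ c, (P.filter fun w => w.2 = c).card = kk (out c) := by
      intro c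
      refine Finset.card_bij (fun w _ => w.1) ?_ ?_ ?_
      · intro w hw
        simp only [P, Finset.mem_filter, Finset.mem_product, Finset.mem_univ, and_true] at hw
        obtain ⟨⟨h1, h2⟩, rfl⟩ := hw
        exact Finset.mem_filter.2 ⟨h1, h2⟩
      · intro a ha b hb hab
        simp only [Finset.mem_filter] at ha hb
        exact Prod.ext hab (ha.2.trans hb.2.symm)
      · intro e he
        rw [Finset.mem_filter] at he
        exact ⟨(e, c), by simp [P, he.1, he.2], rfl⟩
    rw [Finset.card_eq_sum_card_fiberwise (f := fun w : G × G ⧸ N => w.2) (t := Finset.univ)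
      fun w _ => Finset.mem_univ _]
    exact Finset.sum_congr rfl fun c _ => h c
  have hPle : P.card ≤ ∑ i, size i * k i := by
    rw [hPc]
    choose ix n hn m hm hix using fun c : G ⧸ N => hcover (out c)
    calc ∑ c : G ⧸ N, kk (out c) = ∑ c : G ⧸ N, kk (r (ix c)) :=
          Finset.sum_congr rfl fun c _ => by
            rw [hix c]; exact hkk _ (hn c) _ (hm c) _
      _ = ∑ i, ∑ c ∈ Finset.univ.filter (fun c : G ⧸ N => ix c = i), kk (r (ix c)) :=
          (Finset.sum_fiberwise _ _ _).symm
      _ ≤ ∑ i, size i * k i := by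
          refine Finset.sum_le_sum fun i _ => ?_
          calc ∑ c ∈ Finset.univ.filter (fun c : G ⧸ N => ix c = i), kk (r (ix c))
              ≤ (Finset.univ.filter fun c : G ⧸ N => ix c = i).card * k i := by
                refine Finset.sum_le_card_nsmul _ _ _ fun c hc => ?_
                rw [(Finset.mem_filter.1 hc).2]; exact hk i
            _ ≤ size i * k i := by
                refine Nat.mul_le_mul_right _ (le_trans ?_ (hsize i))
                rw [← Fintype.card_coe, ← Nat.card_eq_fintype_card]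
                refine Nat.card_le_card_of_injective
                  (fun c => ⟨c.1, n c.1, hn c.1, ?_⟩) fun a b hab => Subtype.ext (congrArg (fun w : {c : G ⧸ N // ∃ n ∈ N, c = ((n * r i : G) : G ⧸ N)} => w.1) hab)
                conv_lhs => rw [← QuotientGroup.out_eq' c.1]
                show ((out c.1 : G) : G ⧸ N) = _
                rw [hix c.1, (Finset.mem_filter.1 c.2).2, QuotientGroup.eq]
                have : (n c.1 * r i * m c.1)⁻¹ * (n c.1 * r i) = (m c.1)⁻¹ := by group
                rw [this]; exact inv_mem (hm c.1)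
  -- the cosets met by the centraliser
  let X : Finset (G ⧸ N) := Finset.univ.filter fun c => (out c)⁻¹ * s * out c ∈ O
  have hXP : O.card * X.card ≤ P.card := by
    choose nn hnn hnne using hOmem
    rw [← Finset.card_product]
    refine Finset.card_le_card_of_injOn
      (fun w => (w.1, if h : w.1 ∈ O then ((nn w.1 h * out w.2 : G) : G ⧸ N) else w.2)) ?_ ?_
    · rintro ⟨e, c⟩ hw
      simp only [Finset.coe_product, Set.mem_prod, Finset.mem_coe] at hw
      obtain ⟨he, hc⟩ := hw
      have hc' := (Finset.mem_filter.1 hc).2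
      simp only [Finset.mem_coe, P, Finset.mem_filter, Finset.mem_product, Finset.mem_univ, and_true,
        dif_pos he]
      refine ⟨he, ?_⟩
      obtain ⟨w, hw⟩ := QuotientGroup.mk_out_eq_mul N (nn e he * out c)
      rw [show out ((nn e he * out c : G) : G ⧸ N) = nn e he * out c * w from hw,
        show (nn e he * out c * (w : G))⁻¹ * e * (nn e he * out c * w) =
          (w : G)⁻¹ * ((out c)⁻¹ * ((nn e he)⁻¹ * e * nn e he) * out c) * (w : G)⁻¹⁻¹ by group,
        show (nn e he)⁻¹ * e * nn e he = s by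
          nth_rewrite 2 [← hnne e he]; group]
      exact hconjO _ (inv_mem w.2) _ hc'
    · rintro ⟨e, c⟩ hw ⟨e', c'⟩ hw' h
      simp only [Finset.coe_product, Set.mem_prod, Finset.mem_coe] at hw hw'
      simp only [Prod.mk.injEq] at h
      obtain ⟨rfl, h⟩ := h
      simp only [dif_pos hw.1] at h
      rw [QuotientGroup.eq] at h
      refine Prod.ext rfl ?_
      show c = c'
      rw [← QuotientGroup.out_eq' c, ← QuotientGroup.out_eq' c', QuotientGroup.eq]
      simpa [out, mul_assoc] using h
  -- the orbit of the base coset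
  have hfib : Nat.card C ≤ Nat.card ↥(C ⊓ N) * X.card := by
    rw [← card_mul_index ((C ⊓ N).subgroupOf C),
      Nat.card_congr (subgroupOfEquivOfLe (inf_le_left : C ⊓ N ≤ C)).toEquiv, index_eq_card]
    refine Nat.mul_le_mul_left _ ?_
    rw [← Fintype.card_coe X, ← Nat.card_eq_fintype_card]
    let f : C → X := fun c => ⟨((c : G) : G ⧸ N), by
      simp only [X, Finset.mem_filter, Finset.mem_univ, true_and]
      obtain ⟨w, hw⟩ := QuotientGroup.mk_out_eq_mul N (c : G)
      rw [show out ((c : G) : G ⧸ N) = (c : G) * w from hw,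
        show ((c : G) * (w : G))⁻¹ * s * ((c : G) * w) =
          (w : G)⁻¹ * ((c : G)⁻¹ * (s * c)) * (w : G)⁻¹⁻¹ by group,
        ← mem_centralizer_singleton_iff.1 c.2, inv_mul_cancel_left]
      exact hconjO _ (inv_mem w.2) _ hsO⟩
    refine Nat.card_le_card_of_injective (Quotient.lift f ?_) ?_
    · intro a b hab
      have hab' := mem_subgroupOf.1 (QuotientGroup.leftRel_apply.1 hab)
      exact Subtype.ext (QuotientGroup.eq.2 hab'.2)
    · rintro ⟨a⟩ ⟨b⟩ hab
      have h := QuotientGroup.eq.1 (congrArg (fun w : X => (w : G ⧸ N)) hab)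
      exact Quotient.sound (QuotientGroup.leftRel_apply.2
        (mem_subgroupOf.2 ⟨C.mul_mem (C.inv_mem a.2) b.2, h⟩))
  -- the orbit in `O`
  have hclass : Nat.card ↥(C ⊓ N) * O.card ≤ Nat.card N := by
    choose nn hnn hnne using hOmem
    rw [← Fintype.card_coe, ← Nat.card_eq_fintype_card, ← Nat.card_prod]
    refine Nat.card_le_card_of_injective
      (fun w : ↥(C ⊓ N) × O => (⟨nn w.2 w.2.2 * w.1, mul_mem (hnn _ _) w.1.2.2⟩ : N)) ?_
    rintro ⟨a, e⟩ ⟨b, e'⟩ h
    have h' : nn e e.2 * (a : G) = nn e' e'.2 * b := congrArg Subtype.val h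
    have key : ∀ (x : G), x ∈ C → ∀ (d : G) (hd : d ∈ O), nn d hd * x * s * (nn d hd * x)⁻¹ = d := by
      intro x hx d hd
      conv_rhs => rw [← hnne d hd]
      rw [mul_assoc (nn d hd) x, mem_centralizer_singleton_iff.1 hx]
      group
    have he : e = e' := Subtype.ext (by
      rw [← key a a.2.1 e e.2, ← key b b.2.1 e' e'.2, h'])
    subst he
    exact Prod.ext (Subtype.ext (mul_left_cancel h')) rfl
  calc Nat.card C * O.card ^ 2 ≤ Nat.card ↥(C ⊓ N) * X.card * O.card ^ 2 :=
        Nat.mul_le_mul_right _ hfib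
    _ = Nat.card ↥(C ⊓ N) * O.card * (O.card * X.card) := by ring
    _ ≤ Nat.card N * ∑ i, size i * k i := Nat.mul_le_mul hclass (hXP.trans hPle)

end H42.J4Cent
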