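import Cfsg.Agent.H42.J4Cent.Data
import Cfsg.Agent.H42.J4.M22Facts
import Cfsg.Agent.H87.MathieuCert

/-!
The action of M22 on 77 hexads, given by its values on three generators, and one permutation
outside the image.
-/

set_option autoImplicit false
set_option maxRecDepth 100000

open Cfsg Subgroup

namespace H42.J4Cent

open H90 H97.MOut

/-- Position `j` lies on hexad `i`. -/
def onHex (i : Fin 77) (j : ℕ) : Bool := (Data.hexads.getD i.val 0).testBit j

/-- `π` is the permutation of the hexads induced by `σ`. -/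
def Induces (σ : Equiv.Perm GolayPt) (π : Equiv.Perm (Fin 77)) : Prop :=
  ∀ i x, onHex (π i) (idx (σ x)).val = onHex i (idx x).val

theorem Induces.mul {σ τ : Equiv.Perm GolayPt} {π ρ : Equiv.Perm (Fin 77)} (h : Induces σ π)
    (h' : Induces τ ρ) : Induces (σ * τ) (π * ρ) := fun i x => by
  rw [Equiv.Perm.mul_apply, Equiv.Perm.mul_apply, h, h']

theorem induces_one : Induces 1 1 := fun i x => rfl

/-- The pairs (permutation of the points, induced permutation of the hexads). -/
def pairGrp : Subgroup (Equiv.Perm GolayPt × Equiv.Perm (Fin 77)) where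
  carrier := {w | Induces w.1 w.2}
  one_mem' := induces_one
  mul_mem' h h' := h.mul h'
  inv_mem' {w} h i x := by
    have e := h (w.2⁻¹ i) (w.1⁻¹ x)
    rw [Equiv.Perm.inv_def, Equiv.Perm.inv_def, Equiv.apply_symm_apply, Equiv.apply_symm_apply] at e
    exact e.symm

/-- Codes check. -/
def indB (p : ℕ) (mv : List ℕ) : Bool :=
  isPerm p && (List.range 77).all fun i => (List.range 24).all fun j =>
    ((Data.hexads.getD (mv.getD i 0) 0).testBit (img p j)) == ((Data.hexads.getD i 0).testBit j)

theorem induces_of_indB {p : ℕ} {mv : List ℕ} (h : indB p mv = true) {σ : Equiv.Perm GolayPt}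
    (hσ : Repr σ p) {π : Equiv.Perm (Fin 77)} (hπ : ∀ i, (π i).val = mv.getD i.val 0) :
    Induces σ π := by
  simp only [indB, Bool.and_eq_true, List.all_eq_true, List.mem_range, beq_iff_eq] at h
  intro i x
  rw [onHex, onHex, hπ i, hσ.apply x]
  exact h.2 i.val i.isLt (idx x).val (idx x).isLt

theorem sig_hex : ∀ i j : Fin 77, (∀ k : Fin 24, onHex i k.val = onHex j k.val) → i = j := by
  decide +kernel

theorem sig_pts : ∀ j k : Fin 24, (∀ i : Fin 77, onHex i j.val = onHex i k.val) →
    j = k ∨ ((j.val = 0 ∨ j.val = 23) ∧ (k.val = 0 ∨ k.val = 23)) := by decide +kernel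

theorem induced_unique {σ : Equiv.Perm GolayPt} {π ρ : Equiv.Perm (Fin 77)} (h : Induces σ π)
    (h' : Induces σ ρ) : π = ρ := Equiv.ext fun i => sig_hex _ _ fun k => by
  obtain ⟨x, hx⟩ : ∃ x, σ x = pt k := ⟨σ.symm (pt k), Equiv.apply_symm_apply _ _⟩
  have e1 := h i x
  have e2 := h' i x
  rw [hx, idx_pt] at e1 e2
  rw [e1, e2]

theorem fix_of_induces_one {σ : Equiv.Perm GolayPt} (h : Induces σ 1) (x : GolayPt)
    (h0 : (idx x).val ≠ 0) (h23 : (idx x).val ≠ 23) : σ x = x := by
  rcases sig_pts (idx (σ x)) (idx x) (fun i => h i x) with e | ⟨-, e⟩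
  · exact idx_injective e
  · omega

theorem pt_zero : pt ⟨0, by norm_num⟩ = (some 0 : GolayPt) ∧ pt ⟨23, by norm_num⟩ = (none : GolayPt) := by
  decide +kernel

/-- The three generators and the outer element with their hexad permutations. -/
theorem gens_check :
    indB dataM22.a (Data.moves.getD 0 []) = true ∧ indB dataM22.n (Data.moves.getD 1 []) = true ∧
    indB dataM22.b (Data.moves.getD 2 []) = true ∧
    indB 13512061348983810068035331201573239 (Data.moves.getD 3 []) = true ∧
    img 13512061348983810068035331201573239 0 = 23 ∧ img 13512061348983810068035331201573239 23 = 0 := by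
  decide +kernel

theorem outer_mem24 : H87.mem24 13512061348983810068035331201573239 = true := by decide +kernel

theorem swap_not_code : preservesCode (packAux
    (fun i => if i = 0 then 23 else if i = 23 then 0 else i % 32) 24) = false := by decide +kernel

/-- M22 is generated by the three certified generators. -/
theorem gen22 {A N B : Equiv.Perm GolayPt} (hA : Repr A dataM22.a) (hN : Repr N dataM22.n)
    (hB : Repr B dataM22.b) : Subgroup.closure {A, N, B} = Spor.M22 := by
  have hmem : ∀ p ∈ [dataM22.a, dataM22.n, dataM22.b], ∀ σ, Repr σ p → σ ∈ Spor.M22 := by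
    intro p hp σ hσ
    obtain ⟨τ, hτ⟩ := H87.exists_of_mem22 ((List.all_eq_true.1 mems_M22) p hp)
    exact hσ.unique hτ ▸ τ.2
  have hch := chains_M22
  simp only [checkChains, Bool.and_eq_true, beq_iff_eq, List.all_eq_true, decide_eq_true_eq,
    List.mem_range] at hch
  obtain ⟨⟨⟨⟨⟨hnodes, hokA⟩, hsA⟩, -⟩, -⟩, hidx⟩ := hch
  set K := Subgroup.closure ({A, N, B} : Set (Equiv.Perm GolayPt)) with hK
  have hle : K ≤ Spor.M22 := by
    rw [hK, Subgroup.closure_le]
    rintro _ (rfl | rfl | rfl)
    · exact hmem _ (by simp) _ hA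
    · exact hmem _ (by simp) _ hN
    · exact hmem _ (by simp) _ hB
  have hcodes : code A = dataM22.a ∧ code N = dataM22.n ∧ code B = dataM22.b := by
    have hc : (packAux (fun i => img dataM22.a i) 24 == dataM22.a) = true ∧
        (packAux (fun i => img dataM22.n i) 24 == dataM22.n) = true ∧
        (packAux (fun i => img dataM22.b i) 24 == dataM22.b) = true := by decide +kernel
    exact ⟨(code_of_repr hA).trans (beq_iff_eq.1 hc.1), (code_of_repr hN).trans (beq_iff_eq.1 hc.2.1),
      (code_of_repr hB).trans (beq_iff_eq.1 hc.2.2)⟩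
  have hnode : ∀ i < dataM22.nodes.length, ∃ σ ∈ K, code σ = nodeV dataM22 i := by
    intro i
    induction i using Nat.strong_induction_on with
    | _ i ih =>
    intro hi
    have h := hnodes i hi
    simp only [nodeOK] at h
    split_ifs at h with h0 h1 h2 h3
    · exact ⟨1, one_mem _, by rw [code_one]; exact (beq_iff_eq.1 h).symm⟩
    · exact ⟨A, Subgroup.subset_closure (by simp), by rw [hcodes.1]; exact (beq_iff_eq.1 h).symm⟩
    · exact ⟨N, Subgroup.subset_closure (by simp), by rw [hcodes.2.1]; exact (beq_iff_eq.1 h).symm⟩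
    · exact ⟨B, Subgroup.subset_closure (by simp), by rw [hcodes.2.2]; exact (beq_iff_eq.1 h).symm⟩
    · simp only [Bool.and_eq_true, decide_eq_true_eq, beq_iff_eq] at h
      obtain ⟨σ, hσ, eσ⟩ := ih _ h.1.1 (by omega)
      obtain ⟨τ, hτ, eτ⟩ := ih _ h.1.2 (by omega)
      exact ⟨σ * τ, mul_mem hσ hτ, by rw [code_mul, eσ, eτ, h.2]⟩
  refine (chain_exhausts hle H87.natCard_M22 hokA hsA fun l hl u hu => ?_).1
  obtain ⟨l', hl', rfl⟩ := List.mem_map.1 hl
  obtain ⟨i, hi, rfl⟩ := List.mem_map.1 hu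
  exact hnode i (hidx l' (List.mem_append_left _ hl') i hi)

open H25.M22 (G22)

/-- A permutation of `Fin 77` outside the image of M22, and the image itself. -/
theorem exists_action {πA πN πB πO : Equiv.Perm (Fin 77)}
    (hA : ∀ i, (πA i).val = (Data.moves.getD 0 []).getD i.val 0)
    (hN : ∀ i, (πN i).val = (Data.moves.getD 1 []).getD i.val 0)
    (hB : ∀ i, (πB i).val = (Data.moves.getD 2 []).getD i.val 0)
    (hO : ∀ i, (πO i).val = (Data.moves.getD 3 []).getD i.val 0) :
    ∃ φ : G22 →* Equiv.Perm (Fin 77), Function.Injective φ ∧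
      φ.range = Subgroup.closure {πA, πN, πB} ∧ πO ∉ φ.range := by
  obtain ⟨hgA, hgN, hgB, hgO, ho0, ho23⟩ := gens_check
  have hp : ∀ p mv, indB p mv = true → ∃ σ, Repr σ p := fun p mv h => by
    simp only [indB, Bool.and_eq_true] at h; exact exists_repr h.1
  obtain ⟨A, rA⟩ := hp _ _ hgA
  obtain ⟨N, rN⟩ := hp _ _ hgN
  obtain ⟨B, rB⟩ := hp _ _ hgB
  obtain ⟨O, rO⟩ := hp _ _ hgO
  have iA := induces_of_indB hgA rA hA
  have iN := induces_of_indB hgN rN hN
  have iB := induces_of_indB hgB rB hB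
  have iO := induces_of_indB hgO rO hO
  set T := Subgroup.closure ({(A, πA), (N, πN), (B, πB)} : Set (Equiv.Perm GolayPt × Equiv.Perm (Fin 77))) with hT
  have hTle : T ≤ pairGrp := by
    rw [hT, Subgroup.closure_le]
    rintro _ (rfl | rfl | rfl)
    · exact iA
    · exact iN
    · exact iB
  have hfst : T.map (MonoidHom.fst _ _) = Spor.M22 := by
    rw [hT, MonoidHom.map_closure, ← gen22 rA rN rB]
    congr 1
    simp [Set.image_insert_eq]
  have hsnd : T.map (MonoidHom.snd _ _) = Subgroup.closure {πA, πN, πB} := by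
    rw [hT, MonoidHom.map_closure]
    congr 1
    simp [Set.image_insert_eq]
  have hex : ∀ g : G22, ∃ π, (g.1, π) ∈ T := fun g => by
    have hg := g.2
    conv at hg => arg 1; rw [← hfst]
    obtain ⟨⟨a, b⟩, hab, e⟩ := Subgroup.mem_map.1 hg
    replace e : a = g.1 := e
    exact ⟨b, e ▸ hab⟩
  choose f hf using hex
  let φ : G22 →* Equiv.Perm (Fin 77) := MonoidHom.mk' f fun g h =>
    induced_unique (hTle (hf (g * h))) ((hTle (hf g)).mul (hTle (hf h)))
  have hg0 : ∀ g : G22, ∀ x : GolayPt, (idx x).val = 0 ∨ (idx x).val = 23 → g.1 x = x := by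
    intro g x hx
    obtain ⟨⟨-, hn⟩, h0⟩ := Subgroup.mem_inf.1 g.2
    rcases hx with hx | hx
    · have : x = pt ⟨0, by norm_num⟩ := by
        rw [← pt_idx x]; exact congrArg pt (Fin.ext hx)
      rw [this, pt_zero.1]; exact h0
    · have : x = pt ⟨23, by norm_num⟩ := by
        rw [← pt_idx x]; exact congrArg pt (Fin.ext hx)
      rw [this, pt_zero.2]; exact hn
  refine ⟨φ, ?_, ?_, ?_⟩
  · rw [← MonoidHom.ker_eq_bot_iff, eq_bot_iff]
    intro g hg
    have h1 : Induces g.1 1 := MonoidHom.mem_ker.1 hg ▸ hTle (hf g)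
    refine mem_bot.2 (Subtype.ext (Equiv.ext fun x => ?_))
    show g.1 x = x
    by_cases hx : (idx x).val = 0 ∨ (idx x).val = 23
    · exact hg0 g x hx
    · exact fix_of_induces_one h1 x (fun e => hx (Or.inl e)) (fun e => hx (Or.inr e))
  · refine le_antisymm ?_ ?_
    · rintro _ ⟨g, rfl⟩
      rw [← hsnd]; exact ⟨(g.1, f g), hf g, rfl⟩
    · rintro π hπ
      rw [← hsnd] at hπ
      obtain ⟨⟨a, b⟩, hab, rfl⟩ := hπ
      have ha : a ∈ Spor.M22 := hfst ▸ ⟨(a, b), hab, rfl⟩
      exact ⟨⟨a, ha⟩, induced_unique (hTle (hf ⟨a, ha⟩)) (hTle hab)⟩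
  · rintro ⟨g, hg⟩
    have h1 : Induces (g.1⁻¹ * O) 1 := by
      have e := (pairGrp.inv_mem (show (g.1, f g) ∈ pairGrp from hTle (hf g)))
      have h2 := Induces.mul (show Induces g.1⁻¹ (f g)⁻¹ from e) iO
      rwa [show f g = πO from hg, inv_mul_cancel] at h2
    obtain ⟨O', hO'M, rO'⟩ := H87.exists_of_mem24 outer_mem24
    have hOO : O = O' := rO.unique rO'
    have hgM : g.1 ∈ M24 := (Subgroup.mem_inf.1 (Subgroup.mem_inf.1 g.2).1).1
    have hσM : g.1⁻¹ * O ∈ M24 := mul_mem (inv_mem hgM) (hOO ▸ hO'M)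
    have hO0 : O (some 0) = none := by
      rw [← pt_zero.1, ← pt_zero.2, rO.apply_eq_iff, idx_pt, idx_pt]; exact ho0
    have hO23 : O none = some 0 := by
      rw [← pt_zero.1, ← pt_zero.2, rO.apply_eq_iff, idx_pt, idx_pt]; exact ho23
    have hfixn : g.1⁻¹ none = none := by
      rw [Equiv.Perm.inv_eq_iff_eq]; exact (hg0 g none (Or.inr (by rw [← pt_zero.2, idx_pt]))).symm
    have hfix0 : g.1⁻¹ (some 0) = some 0 := by
      rw [Equiv.Perm.inv_eq_iff_eq]; exact (hg0 g _ (Or.inl (by rw [← pt_zero.1, idx_pt]))).symm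
    have hr : Repr (g.1⁻¹ * O) (packAux (fun i => if i = 0 then 23 else if i = 23 then 0 else i % 32) 24) := by
      intro i
      have hi24 := i.isLt
      rw [img_packAux _ (fun j => by split_ifs <;> omega)]
      rw [if_pos hi24]
      by_cases e0 : i.val = 0
      · have : pt i = (some 0 : GolayPt) := by
          rw [← pt_zero.1]; exact congrArg pt (Fin.ext e0)
        rw [this, Equiv.Perm.mul_apply, hO0, hfixn, if_pos e0, ← pt_zero.2, idx_pt]
      · by_cases e23 : i.val = 23
        · have : pt i = (none : GolayPt) := by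
            rw [← pt_zero.2]; exact congrArg pt (Fin.ext e23)
          rw [this, Equiv.Perm.mul_apply, hO23, hfix0, if_neg e0, if_pos e23, ← pt_zero.1, idx_pt]
        · rw [fix_of_induces_one h1 (pt i) (by rw [idx_pt]; exact e0) (by rw [idx_pt]; exact e23),
            idx_pt, if_neg e0, if_neg e23, Nat.mod_eq_of_lt (by omega)]
    have := (mem_M24_iff_preservesCode hr).1 hσM
    rw [swap_not_code] at this
    exact Bool.noConfusion this

end H42.J4Cent
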