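import Cfsg.Agent.H42.J4Cent.Abstract
import Cfsg.Agent.H42.J4Cent.Hexad
import Cfsg.Agent.H42.J4Cent.Words

/-!
If the presented fourth Janko group is simple and the centraliser of `s` is no larger than
`887040 · 3 · 2 ^ 13`, then that centraliser has the expected structure.
-/

set_option autoImplicit false
set_option maxRecDepth 100000

open Cfsg Subgroup H26.BitCode H54.J4.Rep
open scoped commutatorElement

namespace H42.J4Cent

open H25.M22 (G22)

/-- The words: six pairs of the extraspecial subgroup, the element of order three, four generators. -/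
def wordL : List (List ℕ) :=
  [Data.w0, Data.w1, Data.w2, Data.w3, Data.w4, Data.w5, Data.w6, Data.w7, Data.w8, Data.w9,
   Data.w10, Data.w11, Data.w12, Data.w13, Data.w14, Data.w15, Data.w16]

/-- Their codes. -/
def codeL : List ℕ :=
  [Data.c0, Data.c1, Data.c2, Data.c3, Data.c4, Data.c5, Data.c6, Data.c7, Data.c8, Data.c9,
   Data.c10, Data.c11, Data.c12, Data.c13, Data.c14, Data.c15, Data.c16]

/-- The listed element. -/
def el (j : ℕ) : J := evG (wordL.getD j [])

/-- Its code. -/
noncomputable def cd (j : ℕ) : ℕ := codeL.getD j 0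

/-- Letters of normal forms. -/
noncomputable def nfLet (i : ℕ) : ℕ := if i = 12 then Data.cS else cd i

/-- Elements of normal forms. -/
def nfEl (i : ℕ) : J := if i = 12 then sG else el i

/-- The code of a normal form. -/
noncomputable def nfC (L : List ℕ) : ℕ := L.foldr (fun i c => mulC (nfLet i) c) cI

theorem words_ok : ∀ j, j < 17 → evC (wordL.getD j []) = cd j := by
  have h : (List.range 17).all (fun j => Nat.beq (evC (wordL.getD j [])) (cd j)) = true := by
    decide +kernel
  intro j hj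
  exact Nat.eq_of_beq_eq_true (List.all_eq_true.1 h j (List.mem_range.2 hj))

theorem is_el {j : ℕ} (hj : j < 17) : Is (rho (el j)) (cd j) := is_ev_of (words_ok j hj)

theorem is_nfEl {i : ℕ} (hi : i < 13) : Is (rho (nfEl i)) (nfLet i) := by
  unfold nfEl nfLet
  split_ifs
  · exact is_s
  · exact is_el (by omega)

theorem is_nf (L : List ℕ) (hL : ∀ i ∈ L, i < 13) : Is (rho (L.map nfEl).prod) (nfC L) := by
  induction L with
  | nil => rw [List.map_nil, List.prod_nil, map_one]; exact is_one
  | cons i L ih =>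
    rw [List.map_cons, List.prod_cons, map_mul]
    exact (is_nfEl (hL i (by simp))).mul (ih fun k hk => hL k (List.mem_cons_of_mem _ hk))

theorem chk_central : (List.range 17).all (fun j =>
    Nat.beq (mulC Data.cS (cd j)) (mulC (cd j) Data.cS)) = true := by decide +kernel

theorem chk_orders : (Nat.beq (mulC Data.cS Data.cS) cI && !Nat.beq Data.cS cI &&
    Nat.beq (mulC (cd 12) (mulC (cd 12) (cd 12))) cI && !Nat.beq (cd 12) cI &&
    Nat.blt Data.cS (2 ^ (112 * 112)) && Nat.blt cI (2 ^ (112 * 112)) &&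
    Nat.blt (cd 12) (2 ^ (112 * 112)) && decide (Data.sq.length = 12)) = true := by decide +kernel

theorem chk_table : (List.range 12).all (fun i =>
    Nat.beq (mulC (cd i) (cd i)) (if Data.sq.getD i false then Data.cS else cI) &&
    (List.range 12).all fun j =>
      if i < j then
        (if j = i + 6 then Nat.beq (mulC (cd i) (cd j)) (mulC Data.cS (mulC (cd j) (cd i)))
         else Nat.beq (mulC (cd i) (cd j)) (mulC (cd j) (cd i)))
      else true) = true := by decide +kernel

theorem chk_conj : (List.range 5).all (fun j => (List.range 12).all fun i =>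
    Nat.beq (mulC (cd (12 + j)) (cd i))
      (mulC (nfC ((Data.conjTab.getD j []).getD i [])) (cd (12 + j))) &&
    ((Data.conjTab.getD j []).getD i []).all fun k => Nat.blt k 13) = true := by decide +kernel

theorem chk_points : ((List.range 77).all fun i =>
    Nat.beq (mulC (Data.pts.getD i 0) Data.cS) (Data.pts.getD i 0) &&
    ((List.range 13).all fun j => Nat.beq (mulC (Data.pts.getD i 0) (cd j)) (Data.pts.getD i 0)) &&
    ((List.range 4).all fun j => Nat.beq (mulC (Data.pts.getD i 0) (cd (13 + j)))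
      (Data.pts.getD ((Data.moves.getD j []).getD i 0) 0)) &&
    Nat.blt (Data.pts.getD i 0) (2 ^ (112 * 112)) &&
    ((List.range i).all fun k => !Nat.beq (Data.pts.getD i 0) (Data.pts.getD k 0)) &&
    ((List.range 4).all fun j => Nat.blt ((Data.moves.getD j []).getD i 0) 77 &&
      (List.range i).all fun k =>
        !Nat.beq ((Data.moves.getD j []).getD i 0) ((Data.moves.getD j []).getD k 0))) = true := by
  decide +kernel

/-- A point. -/
def pM (i : Fin 77) : Mat := matC 112 (Data.pts.getD i.val 0)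

theorem pts_data (i : ℕ) (hi : i < 77) :
    (∀ j, j < 13 → mulC (Data.pts.getD i 0) (cd j) = Data.pts.getD i 0) ∧
    mulC (Data.pts.getD i 0) Data.cS = Data.pts.getD i 0 ∧
    (∀ j, j < 4 → mulC (Data.pts.getD i 0) (cd (13 + j)) =
      Data.pts.getD ((Data.moves.getD j []).getD i 0) 0 ∧ (Data.moves.getD j []).getD i 0 < 77 ∧
      ∀ k, k < i → (Data.moves.getD j []).getD i 0 ≠ (Data.moves.getD j []).getD k 0) ∧
    Data.pts.getD i 0 < 2 ^ (112 * 112) ∧ ∀ k, k < i → Data.pts.getD i 0 ≠ Data.pts.getD k 0 := by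
  have h := List.all_eq_true.1 chk_points i (List.mem_range.2 hi)
  simp only [Bool.and_eq_true, List.all_eq_true, List.mem_range, Bool.not_eq_true',
    Nat.blt_eq] at h
  obtain ⟨⟨⟨⟨⟨h0, h1⟩, h2⟩, h3⟩, h4⟩, h5⟩ := h
  refine ⟨fun j hj => Nat.eq_of_beq_eq_true (h1 j hj), Nat.eq_of_beq_eq_true h0, fun j hj =>
    ⟨Nat.eq_of_beq_eq_true (h2 j hj), (h5 j hj).1, fun k hk => ?_⟩, h3, fun k hk => ?_⟩
  · exact Nat.ne_of_beq_eq_false ((h5 j hj).2 k hk)
  · exact Nat.ne_of_beq_eq_false (h4 k hk)

theorem pM_injective : Function.Injective pM := by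
  intro i k h
  have e := matC_inj (by norm_num) (pts_data i.val i.isLt).2.2.2.1 (pts_data k.val k.isLt).2.2.2.1 h
  rcases lt_trichotomy i.val k.val with hlt | heq | hgt
  · exact absurd e.symm ((pts_data k.val k.isLt).2.2.2.2 _ hlt)
  · exact Fin.ext heq
  · exact absurd e ((pts_data i.val i.isLt).2.2.2.2 _ hgt)

/-- The permutation of a generator. -/
noncomputable def mvPerm (j : Fin 4) : Equiv.Perm (Fin 77) :=
  Equiv.ofBijective (fun i => ⟨(Data.moves.getD j.val []).getD i.val 0,
      ((pts_data i.val i.isLt).2.2.1 j.val j.isLt).2.1⟩) (by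
    refine Finite.injective_iff_bijective.1 fun i k h => ?_
    have e : (Data.moves.getD j.val []).getD i.val 0 = (Data.moves.getD j.val []).getD k.val 0 :=
      congrArg Fin.val h
    rcases lt_trichotomy i.val k.val with hlt | heq | hgt
    · exact absurd e.symm (((pts_data k.val k.isLt).2.2.1 j.val j.isLt).2.2 _ hlt)
    · exact Fin.ext heq
    · exact absurd e (((pts_data i.val i.isLt).2.2.1 j.val j.isLt).2.2 _ hgt))

/-- `g` moves the points by `π⁻¹`. -/
def Moves (g : J) (π : Equiv.Perm (Fin 77)) : Prop :=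
  ∀ i, pM i * ((rho g : Matˣ) : Mat) = pM (π⁻¹ i)

theorem moves_of_code {g : J} {c : ℕ} (hg : Is (rho g) c) {π : Equiv.Perm (Fin 77)}
    (h : ∀ i : Fin 77, mulC (Data.pts.getD i.val 0) c = Data.pts.getD (π⁻¹ i).val 0) : Moves g π := by
  intro i
  rw [pM, pM, hg, ← matC_mulC, h]

/-- The pairs. -/
def moveGrp : Subgroup (J × Equiv.Perm (Fin 77)) where
  carrier := {w | Moves w.1 w.2}
  one_mem' i := by simp [pM]
  mul_mem' {v w} hv hw i := by
    show pM i * ((rho (v.1 * w.1) : Matˣ) : Mat) = pM ((v.2 * w.2)⁻¹ i)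
    rw [map_mul, Units.val_mul, ← mul_assoc, hv i, hw, mul_inv_rev, Equiv.Perm.mul_apply]
  inv_mem' {v} hv i := by
    show pM i * ((rho v.1⁻¹ : Matˣ) : Mat) = pM ((v.2⁻¹)⁻¹ i)
    rw [inv_inv, map_inv]
    have e := hv (v.2 i)
    rw [Equiv.Perm.inv_def, Equiv.symm_apply_apply] at e
    rw [← e, mul_assoc, ← Units.val_mul, mul_inv_cancel, Units.val_one, mul_one]

theorem moves_unique {g : J} {π ρ : Equiv.Perm (Fin 77)} (h : Moves g π) (h' : Moves g ρ) : π = ρ :=
  inv_injective (Equiv.ext fun i => pM_injective ((h i).symm.trans (h' i)))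

/-- The structure of the centraliser. -/
theorem of_upper [Finite J] (hJ : Cfsg.IsJ4 J)
    (hup : Nat.card ↥(centralizer ({sG} : Set J)) ≤ 887040 * (3 * 2 ^ 13)) :
    ∃ z : J, orderOf z = 2 ∧ ∃ (Q N M : Subgroup (Subgroup.centralizer ({z} : Set J))), Q.Normal ∧
      N.Normal ∧ Q ≤ N ∧ N ≤ M ∧ Nat.card Q = 2 ^ 13 ∧ Cfsg.IsExtraspecial 2 Q ∧
      Nat.card N = 3 * 2 ^ 13 ∧ M.index = 2 ∧
      ∃ (_ : (N.subgroupOf M).Normal), Cfsg.IsM22 (M ⧸ N.subgroupOf M) := by
  classical
  haveI : Fact (Nat.Prime 2) := ⟨Nat.prime_two⟩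
  haveI : Fact (Nat.Prime 3) := ⟨Nat.prime_three⟩
  have hi := rho_injective hJ
  have hord := chk_orders
  simp only [Bool.and_eq_true, Bool.not_eq_true', decide_eq_true_eq, Nat.blt_eq] at hord
  obtain ⟨⟨⟨⟨⟨⟨⟨hs2, hs1⟩, ha3⟩, ha1⟩, hsb⟩, hIb⟩, hab⟩, -⟩ := hord
  have hss : sG * sG = 1 := eq_of_is hi
    (by rw [map_mul]; exact (is_s.mul is_s)) (by rw [map_one, Nat.eq_of_beq_eq_true hs2]; exact is_one)
  have hsne : sG ≠ 1 := ne_of_is is_s (by rw [map_one]; exact is_one) hsb hIb
    (Nat.ne_of_beq_eq_false hs1)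
  refine ⟨sG, orderOf_eq_prime (by rw [pow_two]; exact hss) hsne, ?_⟩
  set C : Subgroup J := centralizer ({sG} : Set J) with hC
  have hcen : ∀ j, j < 17 → sG * el j = el j * sG := fun j hj => by
    have h := Nat.eq_of_beq_eq_true (List.all_eq_true.1 chk_central j (List.mem_range.2 hj))
    exact eq_of_is hi (by rw [map_mul]; exact is_s.mul (is_el hj))
      (by rw [map_mul, h]; exact (is_el hj).mul is_s)
  have helC : ∀ j, j < 17 → el j ∈ C := fun j hj =>
    mem_centralizer_singleton_iff.2 (hcen j hj).symm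
  have hsC : sG ∈ C := mem_centralizer_singleton_iff.2 rfl
  -- the frame inside `C`
  let z' : C := ⟨sG, hsC⟩
  let q' : Fin 12 → C := fun i => ⟨el i.val, helC i.val (by omega)⟩
  have htab : ∀ i, i < 12 →
      mulC (cd i) (cd i) = (if Data.sq.getD i false then Data.cS else cI) ∧
      ∀ j, j < 12 → i < j → if j = i + 6 then mulC (cd i) (cd j) = mulC Data.cS (mulC (cd j) (cd i))
        else mulC (cd i) (cd j) = mulC (cd j) (cd i) := by
    intro i hi'
    have h := List.all_eq_true.1 chk_table i (List.mem_range.2 hi')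
    simp only [Bool.and_eq_true, List.all_eq_true, List.mem_range] at h
    refine ⟨Nat.eq_of_beq_eq_true h.1, fun j hj hij => ?_⟩
    have h2 := h.2 j hj
    rw [if_pos hij] at h2
    by_cases e : j = i + 6
    · rw [if_pos e] at h2 ⊢; exact Nat.eq_of_beq_eq_true h2
    · rw [if_neg e] at h2 ⊢; exact Nat.eq_of_beq_eq_true h2
  have hF : Frame z' q' :=
    { z2 := Subtype.ext hss
      zne := fun e => hsne (congrArg Subtype.val e)
      zq := fun i => Subtype.ext (hcen i.val (by omega))
      sq := fun i => by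
        have h := (htab i.val i.isLt).1
        cases hb : Data.sq.getD i.val false <;> simp only [hb, Bool.false_eq_true, if_false, if_true] at h
        · refine Or.inl (Subtype.ext (eq_of_is hi (c := mulC (cd i.val) (cd i.val))
            (g := el i.val * el i.val) (h := 1) ?_ ?_))
          · show Is (rho (el i.val * el i.val)) _
            rw [map_mul]; exact (is_el (by omega)).mul (is_el (by omega))
          · show Is (rho 1) _
            rw [map_one, h]; exact is_one
        · refine Or.inr (Subtype.ext (eq_of_is hi (c := mulC (cd i.val) (cd i.val))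
            (g := el i.val * el i.val) (h := sG) ?_ ?_))
          · show Is (rho (el i.val * el i.val)) _
            rw [map_mul]; exact (is_el (by omega)).mul (is_el (by omega))
          · show Is (rho sG) _
            rw [h]; exact is_s
      com := fun i j hij hne => by
        have h := (htab i.val i.isLt).2 j.val j.isLt hij
        rw [if_neg hne] at h
        refine Subtype.ext (eq_of_is hi (c := mulC (cd i.val) (cd j.val)) (g := el i.val * el j.val)
          (h := el j.val * el i.val) ?_ ?_)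
        · rw [map_mul]; exact (is_el (by omega)).mul (is_el (by omega))
        · rw [map_mul, h]; exact (is_el (by omega)).mul (is_el (by omega))
      pair := fun i j hi6 hj => by
        have h := (htab i.val i.isLt).2 j.val j.isLt (by omega)
        rw [if_pos hj] at h
        refine Subtype.ext (eq_of_is hi (c := mulC (cd i.val) (cd j.val)) (g := el i.val * el j.val)
          (h := sG * (el j.val * el i.val)) ?_ ?_)
        · rw [map_mul]; exact (is_el (by omega)).mul (is_el (by omega))
        · rw [map_mul, map_mul, h]; exact is_s.mul ((is_el (by omega)).mul (is_el (by omega))) }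
  obtain ⟨hES, hQ13⟩ := hF.extraspecial
  set Q : Subgroup C := hF.span with hQ
  have hzQ : z' ∈ Q := subset_closure (Set.mem_insert _ _)
  have hqQ : ∀ i, q' i ∈ Q := fun i => subset_closure (Set.mem_insert_of_mem _ ⟨i, rfl⟩)
  -- conjugation by the five further elements
  let c' : Fin 5 → C := fun j => ⟨el (12 + j.val), helC _ (by omega)⟩
  have hconj : ∀ (j : Fin 5) (i : Fin 12), c' j * q' i * (c' j)⁻¹ ∈ Q := by
    intro j i
    have h := List.all_eq_true.1 (List.all_eq_true.1 chk_conj j.val (List.mem_range.2 j.isLt))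
      i.val (List.mem_range.2 i.isLt)
    simp only [Bool.and_eq_true, List.all_eq_true, Nat.blt_eq] at h
    set L := (Data.conjTab.getD j.val []).getD i.val [] with hL
    have hmem : ∀ k : ℕ, k < 13 → ∃ w ∈ Q, (w : J) = nfEl k := by
      intro k hk
      unfold nfEl
      split_ifs with e
      · exact ⟨z', hzQ, rfl⟩
      · exact ⟨q' ⟨k, by omega⟩, hqQ _, rfl⟩
    obtain ⟨w, hw, hwe⟩ : ∃ w ∈ Q, (w : J) = (L.map nfEl).prod := by
      have : ∀ L' : List ℕ, (∀ k ∈ L', k < 13) → ∃ w ∈ Q, (w : J) = (L'.map nfEl).prod := by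
        intro L'
        induction L' with
        | nil => exact fun _ => ⟨1, Q.one_mem, rfl⟩
        | cons k L' ih =>
          intro hk
          obtain ⟨w, hw, e⟩ := ih fun m hm => hk m (List.mem_cons_of_mem _ hm)
          obtain ⟨u, hu, eu⟩ := hmem k (hk k (by simp))
          exact ⟨u * w, Q.mul_mem hu hw, by rw [Subgroup.coe_mul, e, eu, List.map_cons, List.prod_cons]⟩
      exact this L h.2
    have he : el (12 + j.val) * el i.val = (w : J) * el (12 + j.val) := by
      rw [hwe]
      refine eq_of_is hi (g := el (12 + j.val) * el i.val) ?_ ?_ (c := mulC (cd (12 + j.val)) (cd i.val))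
      · rw [map_mul]; exact (is_el (by omega)).mul (is_el (by omega))
      · rw [map_mul, Nat.eq_of_beq_eq_true h.1]; exact (is_nf L h.2).mul (is_el (by omega))
    have : c' j * q' i * (c' j)⁻¹ = w := Subtype.ext (by
      show el (12 + j.val) * el i.val * (el (12 + j.val))⁻¹ = _
      rw [he, mul_inv_cancel_right])
    exact this ▸ hw
  have hnormc : ∀ j, c' j ∈ normalizer (Q : Set C) := by
    intro j
    have hle : Q.map (MulAut.conj (c' j)).toMonoidHom ≤ Q := by
      rw [hQ, Frame.span, MonoidHom.map_closure, closure_le]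
      rintro _ ⟨w, (rfl | ⟨i, rfl⟩), rfl⟩
      · show c' j * z' * (c' j)⁻¹ ∈ Q
        rw [show c' j * z' = z' * c' j from Subtype.ext (hcen _ (by omega)).symm,
          mul_inv_cancel_right]
        exact hzQ
      · exact hconj j i
    have hmap : Q.map (MulAut.conj (c' j)).toMonoidHom = Q :=
      eq_of_le_of_card_ge hle (by rw [card_map_of_injective (MulAut.conj (c' j)).injective])
    refine Subgroup.mem_normalizer_iff.2 fun w => ⟨fun hw => hle ⟨w, hw, rfl⟩, fun hw => ?_⟩
    obtain ⟨u, hu, hue⟩ := hmap.symm ▸ hw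
    exact ((MulAut.conj (c' j)).injective hue) ▸ hu
  set A : Subgroup C := zpowers (c' 0) with hA
  have ha : orderOf (c' 0) = 3 := by
    refine orderOf_eq_prime (Subtype.ext ?_) fun e => ?_
    · show el 12 ^ 3 = 1
      refine eq_of_is hi (g := el 12 ^ 3) (h := 1) (c := cI) ?_ (by rw [map_one]; exact is_one)
      rw [pow_succ', pow_two, map_mul, map_mul, ← Nat.eq_of_beq_eq_true ha3]
      exact (is_el (by omega)).mul ((is_el (by omega)).mul (is_el (by omega)))
    · exact ne_of_is (g := el 12) (h := (1 : J)) (is_el (by omega)) (by rw [map_one]; exact is_one) hab hIb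
        (Nat.ne_of_beq_eq_false ha1) (congrArg Subtype.val e)
  have hAn : A ≤ normalizer (Q : Set C) := zpowers_le.2 (hnormc 0)
  have hQA : Nat.card ↥(Q ⊔ A) ≥ 3 * 2 ^ 13 := by
    have h2 : 2 ^ 13 ∣ Nat.card ↥(Q ⊔ A) := hQ13 ▸ card_dvd_of_le le_sup_left
    have h3 : 3 ∣ Nat.card ↥(Q ⊔ A) := by
      rw [← ha, ← Nat.card_zpowers]; exact card_dvd_of_le le_sup_right
    exact Nat.le_of_dvd Nat.card_pos
      ((Nat.Coprime.mul_dvd_of_dvd_of_dvd (by norm_num : Nat.Coprime 3 (2 ^ 13)) h3 h2))
  -- the action on the points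
  obtain ⟨φ, hφi, hφr, hφO⟩ := exists_action (πA := mvPerm 0) (πN := mvPerm 1) (πB := mvPerm 2)
    (πO := mvPerm 3) (fun i => rfl) (fun i => rfl) (fun i => rfl) (fun i => rfl)
  let S : Set (C × Equiv.Perm (Fin 77)) :=
    insert (z', 1) (Set.range (fun i => (q' i, (1 : Equiv.Perm (Fin 77))))) ∪
      {(c' 0, 1), (c' 1, (mvPerm 0)⁻¹), (c' 2, (mvPerm 1)⁻¹), (c' 3, (mvPerm 2)⁻¹), (c' 4, (mvPerm 3)⁻¹)}
  set T := Subgroup.closure S with hT
  let inc : C × Equiv.Perm (Fin 77) →* J × Equiv.Perm (Fin 77) :=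
    (C.subtype.comp (MonoidHom.fst _ _)).prod (MonoidHom.snd _ _)
  have hmoves : T ≤ moveGrp.comap inc := by
    rw [hT, Subgroup.closure_le]
    have hfix : ∀ j, j < 13 → Moves (el j) 1 := fun j hj => moves_of_code (is_el (by omega)) fun i =>
      (pts_data i.val i.isLt).1 j hj
    have hgen : ∀ j : Fin 4, Moves (el (13 + j.val)) (mvPerm j)⁻¹ := fun j =>
      moves_of_code (is_el (by omega)) fun i => by
        rw [inv_inv]
        exact ((pts_data i.val i.isLt).2.2.1 j.val j.isLt).1
    rintro _ ((rfl | ⟨i, rfl⟩) | (rfl | rfl | rfl | rfl | rfl))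
    · exact moves_of_code is_s fun i => (pts_data i.val i.isLt).2.1
    · exact hfix i.val (by omega)
    · exact hfix 12 (by omega)
    · exact hgen 0
    · exact hgen 1
    · exact hgen 2
    · exact hgen 3
  set C0 : Subgroup C := T.map (MonoidHom.fst _ _) with hC0
  have hex : ∀ x : C0, ∃ π, ((x : C), π) ∈ T := fun x => by
    obtain ⟨⟨a, b⟩, hab', e⟩ := Subgroup.mem_map.1 x.2
    replace e : a = (x : C) := e
    exact ⟨b, e ▸ hab'⟩
  choose f hf using hex
  let ψ : C0 →* Equiv.Perm (Fin 77) := MonoidHom.mk' f fun u v =>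
    moves_unique (hmoves (hf (u * v))) (hmoves (T.mul_mem (hf u) (hf v)))
  have hψ : ∀ (u : C0) π, ((u : C), π) ∈ T → ψ u = π := fun u π h =>
    moves_unique (hmoves (hf u)) (hmoves h)
  have hSmem : ∀ w ∈ S, w ∈ T := fun w hw => subset_closure hw
  have hin : ∀ w ∈ T, w.1 ∈ C0 := fun w hw => ⟨w, hw, rfl⟩
  have hQC0 : Q ≤ C0 := by
    rw [hQ, Frame.span, closure_le]
    rintro _ (rfl | ⟨i, rfl⟩)
    · exact hin _ (hSmem _ (Or.inl (Set.mem_insert _ _)))
    · exact hin _ (hSmem _ (Or.inl (Set.mem_insert_of_mem _ ⟨i, rfl⟩)))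
  have hAC0 : A ≤ C0 := zpowers_le.2 (hin _ (hSmem (c' 0, 1) (Or.inr (by simp))))
  have hker : (Q ⊔ A).subgroupOf C0 ≤ ψ.ker := by
    intro u hu
    have hle : Q ⊔ A ≤ ψ.ker.map C0.subtype := by
      refine sup_le ?_ (zpowers_le.2 ?_)
      · rw [hQ, Frame.span, closure_le]
        rintro _ (rfl | ⟨i, rfl⟩)
        · exact ⟨⟨z', hQC0 hzQ⟩, hψ _ 1 (hSmem (z', 1) (Or.inl (Set.mem_insert _ _))), rfl⟩
        · exact ⟨⟨q' i, hQC0 (hqQ i)⟩, hψ _ 1
            (hSmem (q' i, 1) (Or.inl (Set.mem_insert_of_mem _ ⟨i, rfl⟩))), rfl⟩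
      · exact ⟨⟨c' 0, hAC0 (mem_zpowers _)⟩, hψ _ 1 (hSmem (c' 0, 1) (Or.inr (by simp))), rfl⟩
    obtain ⟨v, hv, hve⟩ := hle (mem_subgroupOf.1 hu)
    exact (Subtype.ext hve : v = u) ▸ hv
  have hgenmem : ∀ j : Fin 4, (mvPerm j) ∈ ψ.range := by
    intro j
    have hmem : (c' ⟨j.val + 1, by omega⟩, (mvPerm j)⁻¹) ∈ T := by
      refine hSmem _ (Or.inr ?_)
      fin_cases j <;> simp
    exact inv_mem_iff.1 ⟨⟨_, hin _ hmem⟩, hψ _ _ hmem⟩
  have hrange : φ.range < ψ.range := by
    refine lt_of_le_of_ne ?_ fun e => hφO (e ▸ hgenmem 3)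
    rw [hφr, Subgroup.closure_le]
    rintro _ (rfl | rfl | rfl)
    · exact hgenmem 0
    · exact hgenmem 1
    · exact hgenmem 2
  have hφcard : Nat.card φ.range = 443520 := by
    rw [← Nat.card_congr (MonoidHom.ofInjective hφi).toEquiv, H25.M22.card22]
  have hψcard : 887040 ≤ Nat.card ψ.range := by
    obtain ⟨k, hk⟩ := card_dvd_of_le hrange.le
    rw [hφcard] at hk
    have hk2 : 2 ≤ k := by
      by_contra hlt
      interval_cases k
      · exact absurd (hk.trans (mul_zero _)) Nat.card_pos.ne'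
      · exact hrange.ne (eq_of_le_of_card_ge hrange.le (by rw [hk, hφcard, mul_one]))
    rw [hk]
    calc 887040 = 443520 * 2 := by norm_num
      _ ≤ 443520 * k := Nat.mul_le_mul_left _ hk2
  have hkercard : 3 * 2 ^ 13 ≤ Nat.card ψ.ker :=
    le_trans (le_trans hQA (le_of_eq (Nat.card_congr (subgroupOfEquivOfLe (sup_le hQC0 hAC0)).toEquiv).symm))
      (card_le_of_le hker)
  have hprod : Nat.card C0 = Nat.card ψ.ker * Nat.card ψ.range := by
    rw [← index_ker, card_mul_index]
  have hC0top : C0 = ⊤ := by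
    refine eq_top_of_le_card _ (le_trans hup ?_)
    rw [hprod, mul_comm 887040]
    exact Nat.mul_le_mul hkercard hψcard
  have hCcard : Nat.card C0 ≤ 887040 * (3 * 2 ^ 13) := by
    rw [hC0top, card_top]; exact hup
  have hkereq : Nat.card ψ.ker = 3 * 2 ^ 13 := by
    refine le_antisymm (Nat.le_of_mul_le_mul_right ?_ (show 0 < 887040 by norm_num)) hkercard
    calc Nat.card ψ.ker * 887040 ≤ Nat.card ψ.ker * Nat.card ψ.range :=
          Nat.mul_le_mul_left _ hψcard
      _ ≤ 887040 * (3 * 2 ^ 13) := hprod ▸ hCcard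
      _ = 3 * 2 ^ 13 * 887040 := by norm_num
  have hrangeeq : Nat.card ψ.range = 887040 := by
    refine le_antisymm (Nat.le_of_mul_le_mul_left ?_ (show 0 < 3 * 2 ^ 13 by norm_num)) hψcard
    calc 3 * 2 ^ 13 * Nat.card ψ.range = Nat.card ψ.ker * Nat.card ψ.range := by rw [hkereq]
      _ ≤ 887040 * (3 * 2 ^ 13) := hprod ▸ hCcard
      _ = 3 * 2 ^ 13 * 887040 := by norm_num
  -- transport to `C`
  let e : C ≃* C0 := Subgroup.topEquiv.symm.trans (MulEquiv.subgroupCongr hC0top.symm)
  let χ : C →* Equiv.Perm (Fin 77) := ψ.comp e.toMonoidHom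
  have hval : ∀ x : C, (e x : C) = x := fun x => rfl
  have hχker : Nat.card χ.ker = 3 * 2 ^ 13 := by
    rw [← hkereq]
    exact Nat.card_congr (e.toEquiv.subtypeEquiv fun x => Iff.rfl)
  have hχrange : χ.range = ψ.range := by
    rw [MonoidHom.range_comp, MonoidHom.range_eq_top.2 e.surjective, ← MonoidHom.range_eq_map]
  have hQn : Q.Normal := by
    rw [← normalizer_eq_top_iff, eq_top_iff, ← hC0top, hC0, hT, MonoidHom.map_closure, closure_le]
    rintro _ ⟨w, ((rfl | ⟨i, rfl⟩) | (rfl | rfl | rfl | rfl | rfl)), rfl⟩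
    · exact le_normalizer hzQ
    · exact le_normalizer (hqQ i)
    · exact hnormc 0
    · exact hnormc 1
    · exact hnormc 2
    · exact hnormc 3
    · exact hnormc 4
  set M : Subgroup C := φ.range.comap χ with hM
  refine ⟨Q, χ.ker, M, hQn, inferInstance, fun x hx => ?_, fun x hx => ?_, hQ13, hES, hχker, ?_,
    ?_⟩
  · refine MonoidHom.mem_ker.2 (MonoidHom.mem_ker.1 (hker ?_))
    exact mem_subgroupOf.2 (mem_sup_left ((hval x).symm ▸ hx))
  · show χ x ∈ φ.range
    rw [MonoidHom.mem_ker.1 hx]; exact one_mem _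
  · rw [hM, index_comap, hχrange]
    have h := card_mul_index (φ.range.subgroupOf ψ.range)
    rw [Nat.card_congr (subgroupOfEquivOfLe hrange.le).toEquiv, hφcard, hrangeeq] at h
    show (φ.range.subgroupOf ψ.range).index = 2
    omega
  · haveI : (χ.ker.subgroupOf M).Normal := inferInstance
    refine ⟨inferInstance, ?_⟩
    let θ : M →* φ.range := (χ.comp M.subtype).codRestrict _ fun x => x.2
    have hθ : Function.Surjective θ := by
      intro y
      obtain ⟨x, hx⟩ : (y : Equiv.Perm (Fin 77)) ∈ χ.range := hχrange.symm ▸ hrange.le y.2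
      exact ⟨⟨x, show χ x ∈ φ.range from hx.symm ▸ y.2⟩, Subtype.ext hx⟩
    have hk : θ.ker = χ.ker.subgroupOf M := by
      ext x
      rw [MonoidHom.mem_ker, mem_subgroupOf, MonoidHom.mem_ker, Subtype.ext_iff]
      rfl
    let iso : M ⧸ χ.ker.subgroupOf M ≃* G22 :=
      ((QuotientGroup.quotientMulEquivOfEq hk.symm).trans
        (QuotientGroup.quotientKerEquivOfSurjective θ hθ)).trans (MonoidHom.ofInjective hφi).symm
    haveI := H42.J4.simple22
    exact ⟨iso.isSimpleGroup, by rw [Nat.card_congr iso.toEquiv, H25.M22.card22]⟩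

end H42.J4Cent
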