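import Cfsg.Agent.H42.J4Cent.Count
import Cfsg.Agent.H42.J4Cent.Struct

/-!
The centraliser of the central involution of `2 ^ 11 : M24` in the presented fourth Janko group,
from seven double cosets of that subgroup with the known sizes.
-/

set_option autoImplicit false
set_option maxRecDepth 100000

open Cfsg Subgroup H54.J4.Rep
open scoped Classical

namespace H42.J4Cent

/-- The sizes of the orbits. -/
def sizes : List ℕ := [1, 15180, 28336, 3400320, 32643072, 54405120, 82575360]

/-- The bounds on the members of the class that stay inside it. -/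
def bounds : List ℕ := [1771, 7, 1, 0, 0, 0, 0]

theorem reps_ok : ((List.range 7).all fun i => i == 0 || (Count.repOK i &&
    Nat.ble (CountData.keep.getD i []).length (bounds.getD i 0))) = true := by decide +kernel

/-- The seven representatives, as inverses of the tree words. -/
def rep (i : Fin 7) : J := evG (CountData.wi.getD i.val [])

/-- The centraliser of the involution is no larger than expected. -/
theorem card_cent_sG_le [Finite J] (hJ : Cfsg.IsJ4 J)
    (hcover : ∀ h : J, ∃ i : Fin 7, ∃ n ∈ Count.N, ∃ m ∈ Count.N, h = n * rep i * m)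
    (hsize : ∀ i : Fin 7, Nat.card {c : J ⧸ Count.N // ∃ n ∈ Count.N,
      c = ((n * rep i : J) : J ⧸ Count.N)} ≤ sizes.getD i.val 0) :
    Nat.card ↥(centralizer ({sG} : Set J)) ≤ 887040 * (3 * 2 ^ 13) := by
  have hi := rho_injective hJ
  obtain ⟨hcl, hmem⟩ := Count.O_spec hi
  have hk : ∀ i : Fin 7, (Count.O.filter fun e => (rep i)⁻¹ * e * rep i ∈ Count.O).card ≤
      bounds.getD i.val 0 := by
    intro i
    have h := List.all_eq_true.1 reps_ok i.val (List.mem_range.2 i.isLt)
    rw [Bool.or_eq_true, Bool.and_eq_true, beq_iff_eq, Nat.ble_eq] at h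
    rcases h with h | ⟨h, hl⟩
    · refine (Finset.card_filter_le _ _).trans ?_
      rw [Count.card_O hi, h]
      exact le_refl _
    · exact (Count.count_le hi h).trans hl
  have h := card_cent_le Count.N sG Count.O hmem hcl rep (fun i => sizes.getD i.val 0)
    (fun i => bounds.getD i.val 0) hcover hsize hk
  have hsum : ∑ i : Fin 7, sizes.getD i.val 0 * bounds.getD i.val 0 = 136367 := by decide +kernel
  rw [hsum, Count.card_N hi, Count.card_O hi] at h
  refine Nat.le_of_mul_le_mul_right (h.trans ?_) (show 0 < 1771 ^ 2 by norm_num)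
  norm_num

/-- The statement, from a cover by stabilised base cosets. -/
theorem body_of_cover (hJ : Cfsg.IsJ4 J) {K : Type*} [Group K] [Finite K] (ι : K →* J)
    (hι : ι.range = H54.J4.Lower.jN) (q : Fin 7 → J ⧸ ι.range) (St : Fin 7 → Subgroup K)
    (hq : ∀ i, q i = ((rep i : J) : J ⧸ ι.range))
    (hfix : ∀ i, ∀ g ∈ St i, ι g • q i = q i) (hidx : ∀ i, (St i).index ≤ sizes.getD i.val 0)
    (hcov : ∀ c, ∃ i, ∃ n : K, ι n • q i = c) :
    ∃ z : J, orderOf z = 2 ∧ ∃ (Q N M : Subgroup (Subgroup.centralizer ({z} : Set J))), Q.Normal ∧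
      N.Normal ∧ Q ≤ N ∧ N ≤ M ∧ Nat.card Q = 2 ^ 13 ∧ Cfsg.IsExtraspecial 2 Q ∧
      Nat.card N = 3 * 2 ^ 13 ∧ M.index = 2 ∧
      ∃ (_ : (N.subgroupOf M).Normal), Cfsg.IsM22 (M ⧸ N.subgroupOf M) := by
  have hi := rho_injective hJ
  haveI : Finite J := Nat.finite_of_card_ne_zero (by rw [hJ.2]; norm_num)
  have hN : Count.N = ι.range := by
    rw [hι]
    apply Subgroup.map_injective hi
    refine Eq.trans ?_ H54.J4.Lower.map_jN.symm
    have hs : rho sG = H54.J4.Lower.uS :=
      Units.ext ((is_s.trans (congrArg (H26.BitCode.matC 112)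
        (show Data.cS = H54.J4.LowerData.cE0 by decide +kernel))).trans H54.J4.Lower.isS.symm)
    rw [Count.N, MonoidHom.map_closure]
    simp only [Set.image_insert_eq, Set.image_singleton, rho_gx, rho_gy, hs]
  have hcover : ∀ h : J, ∃ i : Fin 7, ∃ n ∈ Count.N, ∃ m ∈ Count.N, h = n * rep i * m := by
    intro h
    obtain ⟨i, n, hn⟩ := hcov ((h : J) : J ⧸ ι.range)
    rw [hq i, MulAction.Quotient.smul_coe, QuotientGroup.eq] at hn
    refine ⟨i, ι n, hN ▸ ⟨n, rfl⟩, (ι n * rep i)⁻¹ * h, hN ▸ hn, ?_⟩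
    rw [← mul_assoc, mul_inv_cancel, one_mul]
  refine of_upper hJ (card_cent_sG_le hJ hcover fun i => le_trans ?_ (hidx i))
  let f : K ⧸ St i → {c : J ⧸ Count.N // ∃ n ∈ Count.N, c = ((n * rep i : J) : J ⧸ Count.N)} :=
    fun x => ⟨((ι x.out * rep i : J) : J ⧸ Count.N), ι x.out, hN ▸ ⟨_, rfl⟩, rfl⟩
  refine Nat.card_le_card_of_surjective f ?_
  rintro ⟨c, n, hn, rfl⟩
  obtain ⟨a, rfl⟩ : n ∈ ι.range := hN ▸ hn
  refine ⟨QuotientGroup.mk a, Subtype.ext ?_⟩
  obtain ⟨u, hu⟩ := QuotientGroup.mk_out_eq_mul (St i) a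
  show ((ι (QuotientGroup.mk a : K ⧸ St i).out * rep i : J) : J ⧸ Count.N) = _
  rw [hu, map_mul, QuotientGroup.eq, hN]
  have h := hfix i u u.2
  rw [hq i, MulAction.Quotient.smul_coe, QuotientGroup.eq] at h
  have e : (ι a * ι u * rep i)⁻¹ * (ι a * rep i) = (ι u * rep i)⁻¹ * rep i := by group
  rw [e]
  exact h

end H42.J4Cent
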